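import Mathlib
import Cfsg.Agent.Lib.PermGroup.AltAut

/-! An automorphism of an alternating group preserving three-cycles is induced by a permutation. -/

set_option autoImplicit false
set_option maxHeartbeats 1000000

namespace Cfsg.Lib.PermGroup.AltAut

open Equiv Equiv.Perm
variable {α : Type*} [Fintype α] [DecidableEq α]

theorem mem_range_of_image (h4 : 4 ≤ Fintype.card α) (φ : MulAut ↥(alternatingGroup α))
    (himg : ∀ x : alternatingGroup α, (x : Perm α).IsThreeCycle → (φ x : Perm α).IsThreeCycle) :
    φ ∈ (MulAut.conjNormal : Perm α →* MulAut ↥(alternatingGroup α)).range := by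
  obtain ⟨p₀, p₁, h01⟩ := Fintype.exists_pair_of_one_lt_card (show 1 < Fintype.card α by omega)
  set I := {i : α // i ≠ p₀ ∧ i ≠ p₁}
  have hcyc : ∀ i : I, (swap p₀ i.1 * swap p₀ p₁).IsThreeCycle := fun i =>
    isThreeCycle_swap_mul_swap_same (Ne.symm i.2.1) h01 i.2.2
  let t : I → alternatingGroup α := fun i => ⟨_, (hcyc i).mem_alternatingGroup⟩
  let u : I → Perm α := fun i => (φ (t i) : Perm α)
  have hu : ∀ i, (u i).IsThreeCycle := fun i => himg _ (hcyc i)
  have ht : ∀ i : I, (t i : Perm α) p₀ = p₁ ∧ (t i : Perm α) p₁ = i.1 := fun i => by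
    simp [t, Perm.mul_apply, swap_apply_of_ne_of_ne h01.symm (Ne.symm i.2.2), swap_apply_of_ne_of_ne]
  have hinjt : Function.Injective t := fun i j h => Subtype.ext (by
    rw [← (ht i).2, ← (ht j).2, h])
  have hinju : Function.Injective u := fun i j h => hinjt (φ.injective (Subtype.ext h))
  have hsq : ∀ i j : I, i ≠ j → (u i * u j) ^ 2 = 1 ∧ u i * u j ≠ 1 := by
    intro i j hij
    have hij' : i.1 ≠ j.1 := fun e => hij (Subtype.ext e)
    have h1 : (t i * t j) ^ 2 = 1 := by
      refine Subtype.ext ?_
      show (swap p₀ i.1 * swap p₀ p₁ * (swap p₀ j.1 * swap p₀ p₁)) ^ 2 = 1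
      have e : swap p₀ p₁ * swap p₀ j.1 * swap p₀ p₁ = swap p₁ j.1 := by
        have := Equiv.swap_apply_apply (swap p₀ p₁) p₀ j.1
        rw [swap_apply_left, swap_apply_of_ne_of_ne j.2.1 j.2.2, swap_inv] at this
        exact this.symm
      have hc : Commute (swap p₀ i.1) (swap p₁ j.1) := by
        refine Perm.Disjoint.commute (disjoint_iff_disjoint_support.2 ?_)
        rw [support_swap (Ne.symm i.2.1), support_swap (Ne.symm j.2.2)]
        simp [h01.symm, j.2.1, i.2.2.symm, hij'.symm, h01, i.2.2, hij', Ne.symm j.2.1]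
      rw [show swap p₀ i.1 * swap p₀ p₁ * (swap p₀ j.1 * swap p₀ p₁) = swap p₀ i.1 * swap p₁ j.1 by
        rw [← e]; simp [mul_assoc], hc.mul_pow, pow_two, pow_two, swap_mul_self, swap_mul_self, one_mul]
    have h2 : t i * t j ≠ 1 := fun h => by
      have h' := DFunLike.congr_fun (congrArg Subtype.val h) p₀
      simp only [Subgroup.coe_mul, Perm.mul_apply, OneMemClass.coe_one, Perm.one_apply, (ht j).1, (ht i).2] at h'
      exact i.2.1 h'
    constructor
    · have := congrArg (fun z : alternatingGroup α => ((φ z : alternatingGroup α) : Perm α)) h1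
      simpa [u] using this
    · intro h
      exact h2 (φ.injective (Subtype.ext (by simpa [u] using h)))
  have hex : ∀ i j : I, i ≠ j → ∃ q, u i q ≠ q ∧ u i q = u j q := fun i j hij =>
    common_edge (by rw [← (hu i).orderOf]; exact pow_orderOf_eq_one _) (hu j) (hu i)
      (hsq i j hij).1 (fun h => hij (hinju h)) (hsq i j hij).2
  have huniq : ∀ i j : I, i ≠ j → ∀ q, u i q ≠ q → u i q = u j q → u i (u i q) ≠ u j (u i q) := by
    intro i j hij q hq e h
    refine hij (hinju ?_)
    have hqi := mem_support.2 hq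
    have hqj : q ∈ (u j).support := mem_support.2 (e ▸ hq)
    rw [((hu i).eq_swap_mul_swap_iff_mem_support).2 hqi, ((hu j).eq_swap_mul_swap_iff_mem_support).2 hqj,
      ← e, h]
  have h3 : ∀ (i : I) (z : α), u i (u i (u i z)) = z := fun i z => by
    have h := pow_orderOf_eq_one (u i)
    rw [(hu i).orderOf] at h
    simpa [pow_succ, Perm.mul_apply] using DFunLike.congr_fun h z
  obtain ⟨i₀, j₀, hij₀⟩ : ∃ i j : I, i ≠ j := by
    have hc : 1 < Fintype.card I := by
      have : Fintype.card I = ((Finset.univ : Finset α) \ {p₀, p₁}).card := by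
        rw [Fintype.card_subtype]; congr 1; ext; simp
      rw [this, Finset.card_univ_diff, Finset.card_pair h01]
      omega
    exact Fintype.exists_pair_of_one_lt_card hc
  obtain ⟨a, ha, hae⟩ := hex i₀ j₀ hij₀
  set b := u i₀ a
  -- every image passes through the edge
  have hedge : ∀ i, u i a = b := by
    intro i
    by_contra hne
    have hii₀ : i₀ ≠ i := fun e => hne (e ▸ rfl)
    have hij : j₀ ≠ i := fun e => hne (e ▸ hae.symm)
    obtain ⟨q, hq, hqe⟩ := hex i₀ i hii₀
    obtain ⟨r, hr, hre⟩ := hex j₀ i hij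
    have hqa : q ≠ a := fun e => hne (by subst e; exact hqe.symm)
    have hra : r ≠ a := fun e => hne (by subst e; exact hre.symm.trans hae.symm)
    have ha' : u j₀ a ≠ a := hae ▸ ha
    have n1 : u i₀ b ≠ u j₀ b := huniq i₀ j₀ hij₀ a ha hae
    have hqm := mem_support.2 hq
    have hrm := mem_support.2 hr
    rw [((hu i₀).support_eq_iff_mem_support).2 (mem_support.2 ha)] at hqm
    rw [((hu j₀).support_eq_iff_mem_support).2 (mem_support.2 ha'), ← hae] at hrm
    simp only [Finset.mem_insert, Finset.mem_singleton] at hqm hrm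
    set w := u i₀ b
    set w' := u j₀ b
    have ew : u i₀ w = a := h3 i₀ a
    have ew' : u j₀ w' = a := by
      have := h3 j₀ a
      rwa [← hae] at this
    have hq' : q = b ∨ q = w := hqm.resolve_left hqa
    have hr' : r = b ∨ r = w' := hrm.resolve_left hra
    have hwb : w ≠ b := fun e => ha (u i₀ |>.injective e)
    have hw'b : w' ≠ b := fun e => ha ((u j₀).injective (e.trans hae) : b = a)
    have horbit : ∀ z v, u i z ≠ z → u i v ≠ v → v = z ∨ v = u i z ∨ v = u i (u i z) := by
      intro z v hz hv
      have := mem_support.2 hv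
      rw [((hu i).support_eq_iff_mem_support).2 (mem_support.2 hz)] at this
      simpa using this
    have hqmv : u i q ≠ q := hqe ▸ hq
    have hrmv : u i r ≠ r := hre ▸ hr
    rcases hq' with hq' | hq' <;> rcases hr' with hr' | hr' <;> subst hq' <;> subst hr'
    · exact n1 (hqe.trans hre.symm)
    · have k1 : u i b = w := hqe.symm
      have k2 : u i w' = a := hre.symm.trans ew'
      rcases horbit b w' hqmv hrmv with h | h | h
      · exact hw'b h
      · exact n1 (k1.symm.trans h.symm)
      · rw [h, h3] at k2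
        exact ha k2
    · have k1 : u i w = a := hqe.symm.trans ew
      have k2 : u i b = w' := hre.symm
      rcases horbit b w hrmv hqmv with h | h | h
      · exact hwb h
      · exact n1 (h.trans k2)
      · rw [h, h3] at k1
        exact ha k1
    · exact n1 ((u i).injective ((hqe.symm.trans ew).trans (hre.symm.trans ew').symm))
  let c : I → α := fun i => u i b
  have hba : b ≠ a := ha
  have hua : ∀ i, a ∈ (u i).support := fun i => mem_support.2 (by rw [hedge i]; exact hba)
  have hnd : ∀ i, c i ≠ a ∧ c i ≠ b := fun i => by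
    have := ((hu i).nodup_iff_mem_support).2 (hua i)
    rw [hedge i] at this
    simp at this
    exact ⟨fun e => this.1.2 e.symm, fun e => this.2 e.symm⟩
  have hcu : ∀ i, u i = swap a (c i) * swap a b := fun i => by
    have e := ((hu i).eq_swap_mul_swap_iff_mem_support).2 (hua i)
    rw [hedge i] at e
    obtain ⟨na, nb⟩ := hnd i
    have k := Equiv.swap_apply_apply (swap a b) b (c i)
    rw [swap_apply_right, swap_apply_of_ne_of_ne na nb, swap_inv] at k
    rw [e, k]
    simp [mul_assoc, c]
  have hcinj : Function.Injective c := fun i j h => hinju (by rw [hcu i, hcu j, h])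
  -- the permutation
  let f : α → α := fun z => if z = p₀ then a else if z = p₁ then b else
    if h : z ≠ p₀ ∧ z ≠ p₁ then c ⟨z, h⟩ else z
  have hf : Function.Injective f := by
    intro z w hzw
    simp only [f] at hzw
    split_ifs at hzw <;> first
      | (subst_vars; rfl)
      | exact congrArg Subtype.val (hcinj hzw)
      | (exfalso; first
          | exact hba hzw
          | exact hba hzw.symm
          | exact (hnd _).1 hzw
          | exact (hnd _).1 hzw.symm
          | exact (hnd _).2 hzw
          | exact (hnd _).2 hzw.symm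
          | tauto)
  let σ : Perm α := Equiv.ofBijective f (Finite.injective_iff_bijective.1 hf)
  refine ⟨σ, MulEquiv.ext fun g => ?_⟩
  let E : Subgroup ↥(alternatingGroup α) :=
    MonoidHom.eqLocus (MulAut.conjNormal σ : ↥(alternatingGroup α) ≃* ↥(alternatingGroup α)).toMonoidHom
      φ.toMonoidHom
  have hle : alternatingGroup α ≤ E.map (alternatingGroup α).subtype := by
    refine eq_top_of_edge_cycles h01 _ fun i hi hi' => ⟨t ⟨i, hi, hi'⟩, ?_, rfl⟩
    refine Subtype.ext ?_
    show ((MulAut.conjNormal σ (t ⟨i, hi, hi'⟩) : alternatingGroup α) : Perm α) = u ⟨i, hi, hi'⟩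
    rw [MulAut.conjNormal_apply, hcu]
    show σ * (swap p₀ i * swap p₀ p₁) * σ⁻¹ = _
    rw [show σ * (swap p₀ i * swap p₀ p₁) * σ⁻¹ = (σ * swap p₀ i * σ⁻¹) * (σ * swap p₀ p₁ * σ⁻¹) by group]
    simp only [← Equiv.swap_apply_apply]
    have e0 : σ p₀ = a := by simp [σ, f]
    have e1 : σ p₁ = b := by simp [σ, f, h01.symm]
    have e2 : σ i = c ⟨i, hi, hi'⟩ := by simp [σ, f, hi, hi']
    rw [e0, e1, e2]
  obtain ⟨g', hg', hgg⟩ := hle g.2
  have : g' = g := Subtype.ext hgg
  subst this
  exact hg'

end Cfsg.Lib.PermGroup.AltAut
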