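import Mathlib

/-!
Jordan's theorem: a primitive permutation group containing a prime cycle with at least three fixed points
contains the alternating group.
-/

set_option autoImplicit false

namespace Cfsg.Lib.PermGroup

open Equiv Equiv.Perm MulAction

variable {α : Type*} [Fintype α] [DecidableEq α] {G : Subgroup (Perm α)}

/-- A transposition of fixed points of a prime cycle is induced by its normalizer. -/
theorem exists_normalizing {p : ℕ} [hp : Fact p.Prime] {g : Perm α} (hgc : g.IsCycle) (hgp : g.support.card = p)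
    (hg : g ∈ G) (ht : IsMultiplyPretransitive G α (Fintype.card α - p)) {x y : α} (hx : x ∉ g.support) (hy : y ∉ g.support) :
    ∃ h ∈ G, (∃ i : ℕ, h * g * h⁻¹ = g ^ i) ∧ ∀ z ∉ g.support, h z = swap x y z := by
  classical
  have hcard : Fintype.card {z : α // z ∉ g.support} = Fintype.card α - p := by
    rw [Fintype.card_subtype_compl, Fintype.card_coe, hgp]
  let e : Fin (Fintype.card α - p) ↪ α :=
    ((Fintype.equivFinOfCardEq hcard).symm.toEmbedding).trans ⟨Subtype.val, Subtype.val_injective⟩
  obtain ⟨h, hh⟩ := ht.exists_smul_eq e (e.trans (swap x y).toEmbedding)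
  have hhz : ∀ z ∉ g.support, (h : Perm α) z = swap x y z := by
    intro z hz
    have := DFunLike.congr_fun hh (Fintype.equivFinOfCardEq hcard ⟨z, hz⟩)
    simpa [e, Function.Embedding.smul_apply, Subgroup.smul_def, Perm.smul_def] using this
  have hswap : ∀ z ∉ g.support, swap x y z ∉ g.support := by
    intro z hz
    rcases eq_or_ne z x with rfl | h1
    · rwa [swap_apply_left]
    rcases eq_or_ne z y with rfl | h2
    · rwa [swap_apply_right]
    rwa [swap_apply_of_ne_of_ne h1 h2]
  set g' := (h : Perm α) * g * (h : Perm α)⁻¹ with hg'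
  have hsupp' : ∀ z ∉ g.support, g' z = z := by
    intro z hz
    have h1 : (h : Perm α) (swap x y z) = z := by rw [hhz _ (hswap z hz), swap_apply_self]
    have h2 : (h : Perm α)⁻¹ z = swap x y z := by
      rw [Perm.inv_eq_iff_eq, h1]
    rw [hg', Perm.mul_apply, Perm.mul_apply, h2, Perm.notMem_support.1 (hswap z hz), h1]
  -- the pointwise stabilizer
  let F : Subgroup (Perm α) :=
    { carrier := {σ | σ ∈ G ∧ ∀ z ∉ g.support, σ z = z}
      one_mem' := ⟨one_mem _, fun z _ => rfl⟩
      mul_mem' := fun ha hb => ⟨mul_mem ha.1 hb.1, fun z hz => by rw [Perm.mul_apply, hb.2 z hz, ha.2 z hz]⟩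
      inv_mem' := fun ha => ⟨inv_mem ha.1, fun z hz => by
        rw [Perm.inv_eq_iff_eq, ha.2 z hz]⟩ }
  have hgF : g ∈ F := ⟨hg, fun z hz => Perm.notMem_support.1 hz⟩
  have hg'F : g' ∈ F := ⟨mul_mem (mul_mem h.2 hg) (inv_mem h.2), hsupp'⟩
  have hFp : ¬ p ^ 2 ∣ Nat.card F := by
    intro hd
    let r : F →* Perm {z : α // z ∈ g.support} :=
      { toFun := fun σ => (σ : Perm α).subtypePerm fun z => by
          constructor
          · intro hz
            by_contra hz'
            have h1 := (σ⁻¹).2.2 z hz'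
            have h2 := σ.2.2 z hz'
            rw [h2] at hz
            exact hz' hz
          · intro hz
            by_contra hz'
            have h1 := σ.2.2 _ hz'
            rw [(σ : Perm α).injective h1] at hz'
            exact hz' hz
        map_one' := by ext; rfl
        map_mul' := fun a b => by ext; rfl }
    have hr : Function.Injective r := by
      intro a b hab
      refine Subtype.ext (Equiv.ext fun z => ?_)
      by_cases hz : z ∈ g.support
      · exact congrArg Subtype.val (DFunLike.congr_fun hab ⟨z, hz⟩)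
      · rw [a.2.2 z hz, b.2.2 z hz]
    have h1 := hd.trans (Subgroup.card_dvd_of_injective r hr)
    rw [Nat.card_perm, Nat.card_eq_fintype_card, Fintype.card_coe, hgp] at h1
    have h2 := (Nat.Prime.pow_dvd_iff_le_factorization hp.out (Nat.factorial_ne_zero p)).1 h1
    rw [Nat.factorization_def _ hp.out, padicValNat_factorial (n := p) (b := 2) (Nat.log_lt_of_lt_pow hp.out.ne_zero (by nlinarith [hp.out.two_le]))] at h2
    simp [Nat.div_self hp.out.pos] at h2
  obtain ⟨S, hS⟩ := (IsPGroup.of_card (p := p) (n := 1) (G := Subgroup.zpowers (⟨g, hgF⟩ : F))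
    (by rw [Nat.card_zpowers, Subgroup.orderOf_mk, hgc.orderOf, hgp, pow_one])).exists_le_sylow
  have hSeq : (S : Subgroup F) = Subgroup.zpowers (⟨g, hgF⟩ : F) := by
    refine (Subgroup.eq_of_le_of_card_ge hS ?_).symm
    obtain ⟨j, hj⟩ := IsPGroup.iff_card.1 S.isPGroup'
    rw [Nat.card_zpowers, Subgroup.orderOf_mk, hgc.orderOf, hgp, hj]
    by_contra hlt
    refine hFp (dvd_trans ?_ (Subgroup.card_subgroup_dvd_card (S : Subgroup F)))
    rw [hj]
    refine pow_dvd_pow p ?_
    by_contra h1
    interval_cases j <;> simp_all [hp.out.one_lt.le]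
  have ho' : orderOf g' = p := by
    rw [hg', show (h : Perm α) * g * (h : Perm α)⁻¹ = MulAut.conj (h : Perm α) g from rfl,
      MulEquiv.orderOf_eq, hgc.orderOf, hgp]
  obtain ⟨S', hS'⟩ := (IsPGroup.of_card (p := p) (n := 1) (G := Subgroup.zpowers (⟨g', hg'F⟩ : F))
    (by rw [Nat.card_zpowers, Subgroup.orderOf_mk, ho', pow_one])).exists_le_sylow
  obtain ⟨k, hk⟩ := MulAction.exists_smul_eq F S' S
  have hmem : k * ⟨g', hg'F⟩ * k⁻¹ ∈ (S : Subgroup F) := by
    rw [← hk]
    exact Subgroup.mem_map_of_mem (MulAut.conj k).toMonoidHom (hS' (Subgroup.mem_zpowers _))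
  rw [hSeq, ← mem_powers_iff_mem_zpowers] at hmem
  obtain ⟨i, hi⟩ := hmem
  refine ⟨(k : Perm α) * h, mul_mem k.2.1 h.2, ⟨i, ?_⟩, fun z hz => ?_⟩
  · have h1 : g ^ i = (k : Perm α) * g' * (k : Perm α)⁻¹ := congrArg Subtype.val hi
    rw [h1, hg']; group
  · rw [Perm.mul_apply, hhz z hz, k.2.2 _ (hswap z hz)]

theorem alternatingGroup_le_of_prime_cycle (hG : IsPreprimitive G α) {p : ℕ} (hp : p.Prime)
    (hpn : p + 3 ≤ Fintype.card α) {g : Perm α} (hgc : g.IsCycle) (hgp : g.support.card = p) (hg : g ∈ G) :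
    alternatingGroup α ≤ G := by
  classical
  haveI := Fact.mk hp
  by_cases hp2 : p = 2
  · rw [subgroup_eq_top_of_isPreprimitive_of_isSwap_mem hG g (card_support_eq_two.1 (hgp.trans hp2)) hg]
    exact le_top
  by_cases hp3 : p = 3
  · exact alternatingGroup_le_of_isPreprimitive_of_isThreeCycle_mem hG (card_support_eq_three_iff.1 (hgp.trans hp3)) hg
  set f := Fintype.card α - p
  have hf : 3 ≤ f := by omega
  have hs : ((g.support : Set α)ᶜ).ncard = (f - 1) + 1 := by
    rw [Set.ncard_compl, Set.ncard_coe_finset, hgp, Nat.card_eq_fintype_card]; omega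
  haveI := isPretransitive_of_isCycle_mem hgc hg
  have hpp : IsPreprimitive (fixingSubgroup G ((g.support : Set α)ᶜ)) (SubMulAction.ofFixingSubgroup G ((g.support : Set α)ᶜ)) := by
    refine IsPreprimitive.of_prime_card ?_
    convert! hp
    rw [Nat.card_eq_fintype_card, Fintype.card_subtype, ← hgp]
    apply congr_arg
    ext y
    simp [SubMulAction.mem_ofFixingSubgroup_iff]
  haveI := hG.isMultiplyPreprimitive hs (by rw [Nat.card_eq_fintype_card]; have := hp.two_le; omega) hpp
  haveI : IsMultiplyPretransitive G α (f - 1 + 2) := IsMultiplyPreprimitive.isMultiplyPretransitive ..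
  have ht : IsMultiplyPretransitive G α (Fintype.card α - p) :=
    isMultiplyPretransitive_of_le (n := f - 1 + 2) (by omega) (by rw [Nat.card_eq_fintype_card]; have := hp.two_le; omega)
  obtain ⟨T, hT, hT3⟩ := Finset.exists_subset_card_eq (s := g.supportᶜ) (n := 3) (by rw [Finset.card_compl, hgp]; omega)
  obtain ⟨x, y, z, hxy, hxz, hyz, rfl⟩ := Finset.card_eq_three.1 hT3
  have hx : x ∉ g.support := Finset.mem_compl.1 (hT (by simp))
  have hy : y ∉ g.support := Finset.mem_compl.1 (hT (by simp))
  have hz : z ∉ g.support := Finset.mem_compl.1 (hT (by simp))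
  obtain ⟨a, ha, ⟨i, hi⟩, has⟩ := exists_normalizing hgc hgp hg ht hx hy
  obtain ⟨b, hb, ⟨j, hj⟩, hbs⟩ := exists_normalizing hgc hgp hg ht hx hz
  set c := (b * a)⁻¹ * (a * b)
  have hconj : ∀ (w : Perm α) (n : ℕ) (v : ℕ), w * g * w⁻¹ = g ^ v → w * g ^ n * w⁻¹ = g ^ (v * n) := by
    intro w n v h
    rw [← conj_pow, h, pow_mul]
  have hcg : c * g = g * c := by
    have h1 : (a * b) * g * (a * b)⁻¹ = g ^ (i * j) := by
      rw [show (a * b) * g * (a * b)⁻¹ = a * (b * g * b⁻¹) * a⁻¹ by group, hj, hconj a j i hi]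
    have h2 : (b * a) * g * (b * a)⁻¹ = g ^ (i * j) := by
      rw [show (b * a) * g * (b * a)⁻¹ = b * (a * g * a⁻¹) * b⁻¹ by group, hi, hconj b i j hj, mul_comm]
    calc c * g = (b * a)⁻¹ * ((a * b) * g * (a * b)⁻¹) * (a * b) := by simp only [c]; group
      _ = (b * a)⁻¹ * ((b * a) * g * (b * a)⁻¹) * (a * b) := by rw [h1, h2]
      _ = g * c := by simp only [c]; group
  set U := swap x y * swap x z
  have hU : IsThreeCycle U := isThreeCycle_swap_mul_swap_same hxy hxz hyz
  have hswap : ∀ {u v : α}, u ∉ g.support → v ∉ g.support → ∀ w ∉ g.support, swap u v w ∉ g.support := by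
    intro u v hu hv w hw
    rcases eq_or_ne w u with rfl | h1
    · rwa [swap_apply_left]
    rcases eq_or_ne w v with rfl | h2
    · rwa [swap_apply_right]
    rwa [swap_apply_of_ne_of_ne h1 h2]
  have hUinv : ∀ w ∉ g.support, U w ∉ g.support := fun w hw => hswap hx hy _ (hswap hx hz w hw)
  have hU2inv : ∀ w ∉ g.support, (U ^ 2) w ∉ g.support := fun w hw => by
    rw [pow_two, Perm.mul_apply]; exact hUinv _ (hUinv w hw)
  have hcs : ∀ w ∉ g.support, c w = (U ^ 2) w := by
    intro w hw
    have h1 : (b * a) ((U ^ 2) w) = (a * b) w := by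
      rw [Perm.mul_apply, Perm.mul_apply, has _ (hU2inv w hw), hbs _ (hswap hx hy _ (hU2inv w hw)), hbs w hw,
        has _ (hswap hx hz w hw), pow_two, Perm.mul_apply]
      show swap x z (swap x y (swap x y (swap x z (swap x y (swap x z w))))) = _
      simp only [swap_apply_self]
    show (b * a)⁻¹ ((a * b) w) = _
    rw [Perm.inv_eq_iff_eq, h1]
  have hcpow : ∀ (n : ℕ) (w : α), w ∉ g.support → (c ^ n) w = (U ^ (2 * n)) w ∧ (U ^ (2 * n)) w ∉ g.support := by
    intro n
    induction n with
    | zero => intro w hw; exact ⟨rfl, hw⟩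
    | succ n ih =>
      intro w hw
      obtain ⟨h1, h2⟩ := ih w hw
      rw [pow_succ', Perm.mul_apply, h1, hcs _ h2, mul_add, mul_one, add_comm, pow_add, Perm.mul_apply]
      exact ⟨rfl, hU2inv _ h2⟩
  have hcp : c ^ p = U ^ (2 * p) := by
    refine Equiv.ext fun w => ?_
    by_cases hw : w ∈ g.support
    · have hUfix : ∀ n : ℕ, (U ^ n) w = w := by
        intro n
        induction n with
        | zero => rfl
        | succ n ih =>
          rw [pow_succ', Perm.mul_apply, ih, Perm.mul_apply, swap_apply_of_ne_of_ne (show w ≠ x from fun e => hx (e ▸ hw)) (show w ≠ z from fun e => hz (e ▸ hw)),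
            swap_apply_of_ne_of_ne (show w ≠ x from fun e => hx (e ▸ hw)) (show w ≠ y from fun e => hy (e ▸ hw))]
      rw [hUfix]
      have hcw : c w ∈ g.support := by
        rw [Perm.mem_support] at hw ⊢
        intro e
        rw [← Perm.mul_apply, ← hcg, Perm.mul_apply] at e
        exact hw (c.injective e)
      obtain ⟨m, hm⟩ := hgc.exists_pow_eq (Perm.mem_support.1 hw) (Perm.mem_support.1 hcw)
      have hcm : ∀ k : ℕ, (c ^ k) w = (g ^ (m * k)) w := by
        intro k
        induction k with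
        | zero => rfl
        | succ k ih =>
          rw [pow_succ', Perm.mul_apply, ih, ← Perm.mul_apply,
            ((show Commute c g from hcg).pow_right (m * k)).eq, Perm.mul_apply, ← hm, ← Perm.mul_apply, ← pow_add,
            mul_add, mul_one]
      rw [hcm, mul_comm m p, pow_mul, show g ^ p = 1 by rw [← hgp, ← hgc.orderOf, pow_orderOf_eq_one], one_pow, Perm.one_apply]
    · exact (hcpow p w hw).1
  have hmod : (2 * p) % 3 = 1 ∨ (2 * p) % 3 = 2 := by
    have : ¬ 3 ∣ p := fun h => hp3 ((Nat.prime_dvd_prime_iff_eq Nat.prime_three hp).1 h).symm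
    omega
  have hU3 : U ^ 3 = 1 := by rw [← hU.orderOf, pow_orderOf_eq_one]
  refine alternatingGroup_le_of_isPreprimitive_of_isThreeCycle_mem hG (g := c ^ p) ?_
    (pow_mem (mul_mem (inv_mem (mul_mem hb ha)) (mul_mem ha hb)) p)
  rw [hcp, ← Nat.mod_add_div (2 * p) 3, pow_add, pow_mul, hU3, one_pow, mul_one]
  rcases hmod with h | h <;> rw [h]
  · rwa [pow_one]
  · rw [pow_two]; exact hU.isThreeCycle_sq

end Cfsg.Lib.PermGroup
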