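import Mathlib
import Cfsg.Agent.Lib.PermGroup.JordanPrime
import Cfsg.Agent.Lib.Transfer.Action
import Cfsg.Agent.Lib.Transfer.NormalPComplement

/-!
Permutation groups containing cycles of two primes: primitivity, the Witt trick, and the degrees 7 and 13.
-/

set_option autoImplicit false
set_option maxHeartbeats 1000000

namespace Cfsg.Lib.PermGroup

open Equiv Equiv.Perm MulAction
open scoped Pointwise

variable {α : Type*} [Fintype α] [DecidableEq α] {G : Subgroup (Perm α)}

/-- A transitive group with a prime cycle moving more than half of the points is primitive. -/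
theorem isPreprimitive_of_cycle (htr : IsPretransitive G α) {q : ℕ} (hq : q.Prime) {y : Perm α} (hyc : y.IsCycle)
    (hys : y.support.card = q) (hy : y ∈ G) (hlt : Fintype.card α < 2 * q) : IsPreprimitive G α := by
  haveI := htr
  haveI := Fact.mk hq
  obtain ⟨a, ha⟩ : y.support.Nonempty := Finset.card_pos.1 (by rw [hys]; exact hq.pos)
  refine IsPreprimitive.of_isTrivialBlock_base a fun {B} haB hB => ?_
  have hd := hB.ncard_dvd_card ⟨a, haB⟩
  rw [Nat.card_eq_fintype_card] at hd
  by_cases h1 : B.ncard ≤ 1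
  · exact Or.inl (Set.ncard_le_one_iff_subsingleton.1 h1)
  right
  set Y : G := ⟨y, hy⟩
  have hYo : orderOf Y = q := by rw [Subgroup.orderOf_mk, hyc.orderOf, hys]
  by_cases hYB : Y • B = B
  · have hsub : (y.support : Set α) ⊆ B := by
      intro z hz
      obtain ⟨i, rfl⟩ := hyc.exists_pow_eq (Perm.mem_support.1 ha) (Perm.mem_support.1 hz)
      have : ∀ i : ℕ, (Y ^ i) • B = B := by
        intro i
        induction i with
        | zero => rw [pow_zero, one_smul]
        | succ i ih => rw [pow_succ', mul_smul, ih, hYB]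
      rw [← this i]
      exact ⟨a, haB, rfl⟩
    have hge : q ≤ B.ncard := by
      rw [← hys, ← Set.ncard_coe_finset]
      exact Set.ncard_le_ncard hsub
    refine Set.eq_of_subset_of_ncard_le (Set.subset_univ B) ?_ (Set.toFinite _)
    rw [Set.ncard_univ, Nat.card_eq_fintype_card]
    obtain ⟨c, hc⟩ := hd
    have hc2 : c < 2 := by
      by_contra hc2
      push Not at hc2
      have : B.ncard * 2 ≤ B.ncard * c := Nat.mul_le_mul_left _ hc2
      omega
    interval_cases c
    · have := Fintype.card_pos_iff.2 (⟨a⟩ : Nonempty α); omega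
    · omega
  · exfalso
    refine h1 ?_
    have hne : ∀ i : ℕ, ¬ q ∣ i → (Y ^ i) • B ≠ B := by
      intro i hi e
      refine hYB ?_
      obtain ⟨j, -, hj⟩ := Nat.exists_mul_mod_eq_one_of_coprime ((hq.coprime_iff_not_dvd.2 hi).symm) hq.one_lt
      have hk : ∀ k : ℕ, ((Y ^ i) ^ k) • B = B := by
        intro k
        induction k with
        | zero => rw [pow_zero, one_smul]
        | succ k ih => rw [pow_succ', mul_smul, ih, e]
      have h2 := hk j
      rwa [← pow_mul, ← Nat.mod_add_div (i * j) q, hj, pow_add, pow_one, pow_mul, show Y ^ q = 1 by rw [← hYo, pow_orderOf_eq_one], one_pow, mul_one] at h2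
    have hdis : ((Finset.range q : Finset ℕ) : Set ℕ).PairwiseDisjoint fun i => (Y ^ i) • B := by
      intro i hi j hj hij
      rw [Finset.coe_range, Set.mem_Iio] at hi hj
      rcases eq_or_ne ((Y ^ i) • B) ((Y ^ j) • B) with h | h
      swap
      · exact hB h
      exfalso
      rcases Nat.lt_or_gt_of_ne hij with hlt' | hlt'
      · refine hne (j - i) (fun hd' => absurd (Nat.le_of_dvd (by omega) hd') (by omega)) ?_
        have := congrArg (fun S => (Y ^ i)⁻¹ • S) h
        simp only [inv_smul_smul] at this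
        rw [show j = i + (j - i) by omega, pow_add, mul_smul, inv_smul_smul] at this
        exact this.symm
      · refine hne (i - j) (fun hd' => absurd (Nat.le_of_dvd (by omega) hd') (by omega)) ?_
        have := congrArg (fun S => (Y ^ j)⁻¹ • S) h
        simp only [inv_smul_smul] at this
        rw [show i = j + (i - j) by omega, pow_add, mul_smul, inv_smul_smul] at this
        exact this
    let f : Fin q × B → α := fun ib => (Y ^ (ib.1 : ℕ)) • (ib.2 : α)
    have hf : Function.Injective f := by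
      rintro ⟨i, b⟩ ⟨j, c⟩ h
      have hij : i = j := by
        by_contra hne'
        have hd2 := hdis (Finset.mem_coe.2 (Finset.mem_range.2 i.2)) (Finset.mem_coe.2 (Finset.mem_range.2 j.2))
          fun e => hne' (Fin.ext e)
        exact Set.disjoint_left.1 hd2 ⟨b, b.2, rfl⟩ ⟨c, c.2, h.symm⟩
      subst hij
      exact Prod.ext rfl (Subtype.ext (MulAction.injective _ h))
    have hle := Nat.card_le_card_of_injective f hf
    rw [Nat.card_prod, Nat.card_eq_fintype_card (α := Fin q), Fintype.card_fin, Nat.card_coe_set_eq,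
      Nat.card_eq_fintype_card (α := α)] at hle
    by_contra hb
    have : q * 2 ≤ q * B.ncard := Nat.mul_le_mul_left q (by omega)
    omega

/-- A permutation commuting with a cycle and fixing every point outside it is a power of it. -/
theorem mem_zpowers_of_commute {c σ : Perm α} (hc : c.IsCycle) (h : Commute σ c) (hfix : ∀ z ∉ c.support, σ z = z) :
    σ ∈ Subgroup.zpowers c := by
  obtain ⟨w, hw⟩ := hc.nonempty_support
  have hsw : σ w ∈ c.support := by
    rw [Perm.mem_support] at hw ⊢
    intro e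
    rw [← Perm.mul_apply, ← h.eq, Perm.mul_apply] at e
    exact hw (σ.injective e)
  obtain ⟨m, hm⟩ := hc.exists_pow_eq (Perm.mem_support.1 hw) (Perm.mem_support.1 hsw)
  refine Subgroup.mem_zpowers_iff.2 ⟨m, Equiv.ext fun z => ?_⟩
  rw [zpow_natCast]
  by_cases hz : z ∈ c.support
  · obtain ⟨i, rfl⟩ := hc.exists_pow_eq (Perm.mem_support.1 hw) (Perm.mem_support.1 hz)
    rw [← Perm.mul_apply σ, (h.pow_right i).eq, Perm.mul_apply, ← hm, ← Perm.mul_apply, ← Perm.mul_apply, ← pow_add, ← pow_add,
      add_comm]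
  · rw [hfix z hz]
    exact Perm.notMem_support.1 fun h' => hz (Perm.support_pow_le c m h')

/-- The fixed points of an element generating a Sylow subgroup: transpositions are induced by its normalizer. -/
theorem exists_normalizing_sylow {p : ℕ} [hp : Fact p.Prime] {g : Perm α} (ho : orderOf g = p)
    (hg : g ∈ G) (hG : ¬ p ^ 2 ∣ Nat.card G) (ht : IsMultiplyPretransitive G α (Fintype.card α - g.support.card))
    {x y : α} (hx : x ∉ g.support) (hy : y ∉ g.support) :
    ∃ h ∈ G, (∃ i : ℕ, h * g * h⁻¹ = g ^ i) ∧ ∀ z ∉ g.support, h z = swap x y z := by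
  classical
  have hcard : Fintype.card {z : α // z ∉ g.support} = Fintype.card α - g.support.card := by
    rw [Fintype.card_subtype_compl, Fintype.card_coe]
  let e : Fin (Fintype.card α - g.support.card) ↪ α :=
    ((Fintype.equivFinOfCardEq hcard).symm.toEmbedding).trans ⟨Subtype.val, Subtype.val_injective⟩
  obtain ⟨h, hh⟩ := ht.exists_smul_eq e (e.trans (swap x y).toEmbedding)
  have hhz : ∀ z ∉ g.support, (h : Perm α) z = swap x y z := by
    intro z hz
    have := DFunLike.congr_fun hh (Fintype.equivFinOfCardEq hcard ⟨z, hz⟩)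
    simpa [e, Function.Embedding.smul_apply, Subgroup.smul_def, Perm.smul_def] using this
  have hswap : ∀ z ∉ g.support, swap x y z ∉ g.support := by
    intro z hz
    rcases eq_or_ne z x with rfl | h1
    · rwa [swap_apply_left]
    rcases eq_or_ne z y with rfl | h2
    · rwa [swap_apply_right]
    rwa [swap_apply_of_ne_of_ne h1 h2]
  set g' := (h : Perm α) * g * (h : Perm α)⁻¹ with hg'
  have hsupp' : ∀ z ∉ g.support, g' z = z := by
    intro z hz
    have h1 : (h : Perm α) (swap x y z) = z := by rw [hhz _ (hswap z hz), swap_apply_self]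
    have h2 : (h : Perm α)⁻¹ z = swap x y z := by rw [Perm.inv_eq_iff_eq, h1]
    rw [hg', Perm.mul_apply, Perm.mul_apply, h2, Perm.notMem_support.1 (hswap z hz), h1]
  let F : Subgroup (Perm α) :=
    { carrier := {σ | σ ∈ G ∧ ∀ z ∉ g.support, σ z = z}
      one_mem' := ⟨one_mem _, fun z _ => rfl⟩
      mul_mem' := fun ha hb => ⟨mul_mem ha.1 hb.1, fun z hz => by rw [Perm.mul_apply, hb.2 z hz, ha.2 z hz]⟩
      inv_mem' := fun ha => ⟨inv_mem ha.1, fun z hz => by rw [Perm.inv_eq_iff_eq, ha.2 z hz]⟩ }
  have hgF : g ∈ F := ⟨hg, fun z hz => Perm.notMem_support.1 hz⟩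
  have hg'F : g' ∈ F := ⟨mul_mem (mul_mem h.2 hg) (inv_mem h.2), hsupp'⟩
  have hFp : ¬ p ^ 2 ∣ Nat.card F := fun hd => hG (hd.trans (Subgroup.card_dvd_of_le fun σ hσ => hσ.1))
  obtain ⟨S, hS⟩ := (IsPGroup.of_card (p := p) (n := 1) (G := Subgroup.zpowers (⟨g, hgF⟩ : F))
    (by rw [Nat.card_zpowers, Subgroup.orderOf_mk, ho, pow_one])).exists_le_sylow
  have hSeq : (S : Subgroup F) = Subgroup.zpowers (⟨g, hgF⟩ : F) := by
    refine (Subgroup.eq_of_le_of_card_ge hS ?_).symm
    obtain ⟨j, hj⟩ := IsPGroup.iff_card.1 S.isPGroup'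
    rw [Nat.card_zpowers, Subgroup.orderOf_mk, ho, hj]
    by_contra hlt
    refine hFp (dvd_trans ?_ (Subgroup.card_subgroup_dvd_card (S : Subgroup F)))
    rw [hj]
    refine pow_dvd_pow p ?_
    by_contra h1
    interval_cases j <;> simp_all [hp.out.one_lt.le]
  have ho' : orderOf g' = p := by
    rw [hg', show (h : Perm α) * g * (h : Perm α)⁻¹ = MulAut.conj (h : Perm α) g from rfl, MulEquiv.orderOf_eq, ho]
  obtain ⟨S', hS'⟩ := (IsPGroup.of_card (p := p) (n := 1) (G := Subgroup.zpowers (⟨g', hg'F⟩ : F))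
    (by rw [Nat.card_zpowers, Subgroup.orderOf_mk, ho', pow_one])).exists_le_sylow
  obtain ⟨k, hk⟩ := MulAction.exists_smul_eq F S' S
  have hmem : k * ⟨g', hg'F⟩ * k⁻¹ ∈ (S : Subgroup F) := by
    rw [← hk]
    exact Subgroup.mem_map_of_mem (MulAut.conj k).toMonoidHom (hS' (Subgroup.mem_zpowers _))
  rw [hSeq, ← mem_powers_iff_mem_zpowers] at hmem
  obtain ⟨i, hi⟩ := hmem
  refine ⟨(k : Perm α) * h, mul_mem k.2.1 h.2, ⟨i, ?_⟩, fun z hz => ?_⟩
  · have h1 : g ^ i = (k : Perm α) * g' * (k : Perm α)⁻¹ := congrArg Subtype.val hi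
    rw [h1, hg']; group
  · rw [Perm.mul_apply, hhz z hz, k.2.2 _ (hswap z hz)]

/-- Two disjoint five-cycles and three fixed points. -/
theorem le_of_double_five [hp : Fact (Nat.Prime 5)] (hG : IsPreprimitive G α) (hcard : Fintype.card α = 13)
    (ht : IsMultiplyPretransitive G α 3) (h25 : ¬ 5 ^ 2 ∣ Nat.card G) {g : Perm α} (hg : g ∈ G) (ho : orderOf g = 5)
    (hs : g.support.card = 10) : alternatingGroup α ≤ G := by
  classical
  have hct : g.cycleType = Multiset.replicate 2 5 := by
    obtain ⟨n, hn⟩ := cycleType_prime_order (σ := g) (by rw [ho]; exact hp.out)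
    have h1 := sum_cycleType g
    rw [hn, ho, Multiset.sum_replicate, hs, smul_eq_mul] at h1
    rw [hn, ho, show n + 1 = 2 by omega]
  have ht' : IsMultiplyPretransitive G α (Fintype.card α - g.support.card) := by rw [hcard, hs]; exact ht
  obtain ⟨T, hT, hT3⟩ := Finset.exists_subset_card_eq (s := g.supportᶜ) (n := 3) (by rw [Finset.card_compl, hs, hcard])
  obtain ⟨x, y, z, hxy, hxz, hyz, rfl⟩ := Finset.card_eq_three.1 hT3
  have hx : x ∉ g.support := Finset.mem_compl.1 (hT (by simp))
  have hy : y ∉ g.support := Finset.mem_compl.1 (hT (by simp))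
  have hz : z ∉ g.support := Finset.mem_compl.1 (hT (by simp))
  obtain ⟨a, ha, ⟨i, hi⟩, has⟩ := exists_normalizing_sylow ho hg h25 ht' hx hy
  obtain ⟨b, hb, ⟨j, hj⟩, hbs⟩ := exists_normalizing_sylow ho hg h25 ht' hx hz
  set c := (b * a)⁻¹ * (a * b)
  have hconj : ∀ (w : Perm α) (n : ℕ) (v : ℕ), w * g * w⁻¹ = g ^ v → w * g ^ n * w⁻¹ = g ^ (v * n) := by
    intro w n v h
    rw [← conj_pow, h, pow_mul]
  have hcg : c * g = g * c := by
    have h1 : (a * b) * g * (a * b)⁻¹ = g ^ (i * j) := by
      rw [show (a * b) * g * (a * b)⁻¹ = a * (b * g * b⁻¹) * a⁻¹ by group, hj, hconj a j i hi]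
    have h2 : (b * a) * g * (b * a)⁻¹ = g ^ (i * j) := by
      rw [show (b * a) * g * (b * a)⁻¹ = b * (a * g * a⁻¹) * b⁻¹ by group, hi, hconj b i j hj, mul_comm]
    calc c * g = (b * a)⁻¹ * ((a * b) * g * (a * b)⁻¹) * (a * b) := by simp only [c]; group
      _ = (b * a)⁻¹ * ((b * a) * g * (b * a)⁻¹) * (a * b) := by rw [h1, h2]
      _ = g * c := by simp only [c]; group
  set U := swap x y * swap x z
  have hU : IsThreeCycle U := isThreeCycle_swap_mul_swap_same hxy hxz hyz
  have hswap : ∀ {u v : α}, u ∉ g.support → v ∉ g.support → ∀ w ∉ g.support, swap u v w ∉ g.support := by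
    intro u v hu hv w hw
    rcases eq_or_ne w u with rfl | h1
    · rwa [swap_apply_left]
    rcases eq_or_ne w v with rfl | h2
    · rwa [swap_apply_right]
    rwa [swap_apply_of_ne_of_ne h1 h2]
  have hUinv : ∀ w ∉ g.support, U w ∉ g.support := fun w hw => hswap hx hy _ (hswap hx hz w hw)
  have hU2inv : ∀ w ∉ g.support, (U ^ 2) w ∉ g.support := fun w hw => by
    rw [pow_two, Perm.mul_apply]; exact hUinv _ (hUinv w hw)
  have hcs : ∀ w ∉ g.support, c w = (U ^ 2) w := by
    intro w hw
    have h1 : (b * a) ((U ^ 2) w) = (a * b) w := by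
      rw [Perm.mul_apply, Perm.mul_apply, has _ (hU2inv w hw), hbs _ (hswap hx hy _ (hU2inv w hw)), hbs w hw,
        has _ (hswap hx hz w hw), pow_two, Perm.mul_apply]
      show swap x z (swap x y (swap x y (swap x z (swap x y (swap x z w))))) = _
      simp only [swap_apply_self]
    show (b * a)⁻¹ ((a * b) w) = _
    rw [Perm.inv_eq_iff_eq, h1]
  have hcpow : ∀ (n : ℕ) (w : α), w ∉ g.support → (c ^ n) w = (U ^ (2 * n)) w ∧ (U ^ (2 * n)) w ∉ g.support := by
    intro n
    induction n with
    | zero => intro w hw; exact ⟨rfl, hw⟩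
    | succ n ih =>
      intro w hw
      obtain ⟨h1, h2⟩ := ih w hw
      rw [pow_succ', Perm.mul_apply, h1, hcs _ h2, mul_add, mul_one, add_comm, pow_add, Perm.mul_apply]
      exact ⟨rfl, hU2inv _ h2⟩
  have hinv : ∀ w : α, c w ∈ g.support ↔ w ∈ g.support := by
    intro w
    rw [Perm.mem_support, Perm.mem_support, ← Perm.mul_apply g c, ← hcg, Perm.mul_apply]
    exact c.injective.ne_iff
  set gs := g.subtypePerm (p := fun w => w ∈ g.support) (fun w => by simp [Perm.apply_mem_support]) with hgs
  set cs := c.subtypePerm (p := fun w => w ∈ g.support) hinv with hcs'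
  have hcard50 : Nat.card (Subgroup.centralizer ({gs} : Set (Perm {w // w ∈ g.support}))) = 50 := by
    have hct' : gs.cycleType = Multiset.replicate 2 5 := by
      rw [← hct, ← cycleType_ofSubtype (g := gs), hgs, ofSubtype_subtypePerm]
      exact fun w hw => Perm.mem_support.2 hw
    rw [nat_card_centralizer, hct', Fintype.card_coe, hs]
    simp
  have hcs50 : cs ^ 50 = 1 := by
    have hmem : cs ∈ Subgroup.centralizer ({gs} : Set (Perm {w // w ∈ g.support})) := by
      refine Subgroup.mem_centralizer_iff.2 fun t ht => ?_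
      rw [Set.mem_singleton_iff.1 ht]
      refine Equiv.ext fun w => Subtype.ext ?_
      exact (DFunLike.congr_fun hcg (w : α)).symm
    rw [← hcard50]
    exact congrArg Subtype.val (pow_card_eq_one' (x := (⟨cs, hmem⟩ : Subgroup.centralizer _)))
  have hU3 : U ^ 3 = 1 := by rw [← hU.orderOf, pow_orderOf_eq_one]
  have hc50 : c ^ 50 = U := by
    refine Equiv.ext fun w => ?_
    by_cases hw : w ∈ g.support
    · have h1 : (c ^ 50) w = w := by
        have := congrArg Subtype.val (DFunLike.congr_fun hcs50 (⟨w, hw⟩ : {w // w ∈ g.support}))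
        rw [hcs', subtypePerm_pow] at this
        exact this
      rw [h1, Perm.mul_apply, swap_apply_of_ne_of_ne (show w ≠ x from fun e => hx (e ▸ hw)) (show w ≠ z from fun e => hz (e ▸ hw)),
        swap_apply_of_ne_of_ne (show w ≠ x from fun e => hx (e ▸ hw)) (show w ≠ y from fun e => hy (e ▸ hw))]
    · rw [(hcpow 50 w hw).1, show 2 * 50 = 3 * 33 + 1 from rfl, pow_add, pow_mul, hU3, one_pow, one_mul, pow_one]
  exact alternatingGroup_le_of_isPreprimitive_of_isThreeCycle_mem hG (g := c ^ 50) (hc50 ▸ hU)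
    (pow_mem (mul_mem (inv_mem (mul_mem hb ha)) (mul_mem ha hb)) 50)

end Cfsg.Lib.PermGroup
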