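import Mathlib

/-!
Three primes between `n` and `2n`, and pairs of primes with gap at least four in `(m/2, m]`.
-/

set_option autoImplicit false

namespace Cfsg.Lib.PermGroup

open Nat

theorem centralBinom_le_of_two_primes (n : ℕ) (n_large : 2 < n)
    (h : ((Finset.Icc (n + 1) (2 * n)).filter Nat.Prime).card ≤ 2) :
    centralBinom n ≤ (2 * n) ^ (sqrt (2 * n) + 2) * 4 ^ (2 * n / 3) := by
  have n2_pos : 1 ≤ 2 * n := by omega
  let f x := x ^ n.centralBinom.factorization x
  let S := {p ∈ Finset.range (2 * n / 3 + 1) | Nat.Prime p}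
  let T := (Finset.Icc (n + 1) (2 * n)).filter Nat.Prime
  have hprod : centralBinom n = ∏ p ∈ S ∪ T, f p := by
    rw [← n.prod_pow_factorization_centralBinom]
    refine (Finset.prod_subset ?_ ?_).symm
    · intro p hp
      rw [Finset.mem_range]
      simp only [S, T, Finset.mem_union, Finset.mem_filter, Finset.mem_range, Finset.mem_Icc] at hp
      omega
    · intro p hp hpS
      rw [Finset.mem_range] at hp
      simp only [S, T, Finset.mem_union, Finset.mem_filter, Finset.mem_range, Finset.mem_Icc] at hpS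
      by_cases hpp : p.Prime
      · simp only [hpp, and_true] at hpS
        rw [factorization_centralBinom_of_two_mul_self_lt_three_mul n_large (by omega) (by omega), Nat.pow_zero]
      · rw [factorization_eq_zero_of_not_prime n.centralBinom hpp, Nat.pow_zero]
  have hle : ∀ p, f p ≤ 2 * n := fun p => pow_factorization_choose_le (by omega)
  have hd : Disjoint S T := by
    rw [Finset.disjoint_left]
    intro p hp hp'
    simp only [S, T, Finset.mem_filter, Finset.mem_range, Finset.mem_Icc] at hp hp'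
    omega
  rw [hprod, Finset.prod_union hd, pow_add, mul_right_comm ((2 * n) ^ sqrt (2 * n))]
  refine Nat.mul_le_mul ?_ ?_
  · rw [← Finset.prod_filter_mul_prod_filter_not S (· ≤ sqrt (2 * n))]
    apply Nat.mul_le_mul
    · refine (Finset.prod_le_prod' fun p _ => hle p).trans ?_
      rw [Finset.prod_const]
      have : (Finset.Icc 1 (sqrt (2 * n))).card = sqrt (2 * n) := by rw [card_Icc, Nat.add_sub_cancel]
      refine pow_right_mono₀ n2_pos ((Finset.card_le_card fun x hx => ?_).trans this.le)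
      obtain ⟨h1, h2⟩ := Finset.mem_filter.1 hx
      exact Finset.mem_Icc.mpr ⟨(Finset.mem_filter.1 h1).2.one_lt.le, h2⟩
    · refine le_trans ?_ (primorial_le_four_pow (2 * n / 3))
      refine (Finset.prod_le_prod' fun p hp => (?_ : f p ≤ p)).trans ?_
      · obtain ⟨h1, h2⟩ := Finset.mem_filter.1 hp
        refine (pow_right_mono₀ (Finset.mem_filter.1 h1).2.one_lt.le ?_).trans (pow_one p).le
        exact Nat.factorization_choose_le_one (sqrt_lt'.mp <| not_le.1 h2)
      refine Finset.prod_le_prod_of_subset_of_one_le' (Finset.filter_subset _ _) ?_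
      exact fun p hp _ => (Finset.mem_filter.1 hp).2.one_lt.le
  · refine (Finset.prod_le_prod' fun p _ => hle p).trans ?_
    rw [Finset.prod_const]
    exact pow_right_mono₀ n2_pos h

theorem seven_mul_le_two_pow (k : ℕ) (hk : 6 ≤ k) : 7 * (k + 1) ≤ 2 ^ k ∨ k = 5 := by
  left
  induction k with
  | zero => omega
  | succ k ih =>
    rcases Nat.lt_or_ge k 6 with h | h
    · have : k = 5 := by omega
      subst this; norm_num
    · have := ih h
      rw [pow_succ]; omega

theorem main_inequality {n : ℕ} (hn : 1024 ≤ n) :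
    n * ((2 * n) ^ (sqrt (2 * n) + 2) * 4 ^ (2 * n / 3)) ≤ 4 ^ n := by
  set r := sqrt (2 * n) with hr
  have hr45 : 45 ≤ r := by
    rw [hr, Nat.le_sqrt]; omega
  set j := Nat.log 2 r + 1 with hj
  have h2n : 2 * n < 2 ^ (2 * j) := by
    have h1 : r < 2 ^ j := Nat.lt_pow_succ_log_self (by norm_num) r
    have h2 : 2 * n < (r + 1) * (r + 1) := Nat.lt_succ_sqrt (2 * n)
    rw [two_mul j, pow_add]
    exact lt_of_lt_of_le h2 (Nat.mul_le_mul h1 h1)
  have h7 : 7 * j ≤ r := by
    rcases Nat.lt_or_ge (Nat.log 2 r) 6 with h | h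
    · omega
    · rcases seven_mul_le_two_pow _ h with h' | h'
      · exact h'.trans (Nat.pow_log_le_self 2 (by omega))
      · omega
  have hj1 : 1 ≤ j := by omega
  have h3 : 2 * j * (r + 3) ≤ 2 * (n / 3) := by
    have h4 : r * r ≤ 2 * n := Nat.sqrt_le (2 * n)
    have h5 : 6 * j * (r + 3) + 4 ≤ r * r := by nlinarith
    have h6 : 2 * n ≤ 6 * (n / 3) + 4 := by omega
    nlinarith
  calc n * ((2 * n) ^ (r + 2) * 4 ^ (2 * n / 3))
      ≤ (2 * n) * ((2 * n) ^ (r + 2) * 4 ^ (2 * n / 3)) := Nat.mul_le_mul_right _ (by omega)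
    _ = (2 * n) ^ (r + 3) * 4 ^ (2 * n / 3) := by rw [← mul_assoc, ← pow_succ']
    _ ≤ (2 ^ (2 * j)) ^ (r + 3) * 4 ^ (2 * n / 3) := Nat.mul_le_mul_right _ (Nat.pow_le_pow_left h2n.le _)
    _ ≤ 4 ^ (n / 3) * 4 ^ (2 * n / 3) := by
        refine Nat.mul_le_mul_right _ ?_
        rw [← pow_mul, show (4 : ℕ) = 2 ^ 2 by norm_num, ← pow_mul]
        exact Nat.pow_le_pow_right (by norm_num) (by omega)
    _ ≤ 4 ^ n := by rw [← pow_add]; exact Nat.pow_le_pow_right (by norm_num) (by omega)

theorem three_primes {n : ℕ} (hn : 1024 ≤ n) : 3 ≤ ((Finset.Icc (n + 1) (2 * n)).filter Nat.Prime).card := by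
  by_contra h
  have h1 : 4 ^ n < n * n.centralBinom := Nat.four_pow_lt_mul_centralBinom n (by omega)
  have h2 := Nat.mul_le_mul_left n (centralBinom_le_of_two_primes n (by omega) (by omega))
  exact absurd (h2.trans (main_inequality hn)) (not_le.2 h1)

/-- Two primes `p`, `q ≥ p + 4` in `(m/2, m]`. -/
theorem exists_prime_pair {m : ℕ} (hm : 11 ≤ m) (h14 : m ≠ 14) (h15 : m ≠ 15) (h16 : m ≠ 16) :
    ∃ p q : ℕ, p.Prime ∧ q.Prime ∧ m < 2 * p ∧ p + 4 ≤ q ∧ q ≤ m := by
  by_cases h : 2048 ≤ m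
  · set n := m / 2
    obtain ⟨s, hs, hs3⟩ := Finset.exists_subset_card_eq (three_primes (n := n) (by omega))
    obtain ⟨a, b, c, hab, hac, hbc, rfl⟩ := Finset.card_eq_three.1 hs3
    have hmem : ∀ x ∈ ({a, b, c} : Finset ℕ), x.Prime ∧ n < x ∧ x ≤ m ∧ m < 2 * x := by
      intro x hx
      have := hs hx
      simp only [Finset.mem_filter, Finset.mem_Icc] at this
      exact ⟨this.2, by omega, by omega, by omega⟩
    obtain ⟨ha, ha1, ha2, ha3⟩ := hmem a (by simp)
    obtain ⟨hb, hb1, hb2, hb3⟩ := hmem b (by simp)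
    obtain ⟨hc, hc1, hc2, hc3⟩ := hmem c (by simp)
    obtain ⟨ka, hka⟩ := ha.odd_of_ne_two (by omega)
    obtain ⟨kb, hkb⟩ := hb.odd_of_ne_two (by omega)
    obtain ⟨kc, hkc⟩ := hc.odd_of_ne_two (by omega)
    by_cases h1 : a + 4 ≤ b; · exact ⟨a, b, ha, hb, ha3, h1, hb2⟩
    by_cases h2 : b + 4 ≤ a; · exact ⟨b, a, hb, ha, hb3, h2, ha2⟩
    by_cases h3 : a + 4 ≤ c; · exact ⟨a, c, ha, hc, ha3, h3, hc2⟩
    by_cases h4 : c + 4 ≤ a; · exact ⟨c, a, hc, ha, hc3, h4, ha2⟩
    by_cases h5 : b + 4 ≤ c; · exact ⟨b, c, hb, hc, hb3, h5, hc2⟩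
    by_cases h6 : c + 4 ≤ b; · exact ⟨c, b, hc, hb, hc3, h6, hb2⟩
    omega
  · have key : ∀ p q : ℕ, p.Prime → q.Prime → p + 4 ≤ q → q ≤ m → m < 2 * p →
        ∃ p q : ℕ, p.Prime ∧ q.Prime ∧ m < 2 * p ∧ p + 4 ≤ q ∧ q ≤ m :=
      fun p q h1 h2 h3 h4 h5 => ⟨p, q, h1, h2, h5, h3, h4⟩
    by_cases h1 : m ≤ 13; · exact key 7 11 (by norm_num) (by norm_num) (by norm_num) (by omega) (by omega)
    by_cases h2 : m ≤ 25; · exact key 13 17 (by norm_num) (by norm_num) (by norm_num) (by omega) (by omega)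
    by_cases h3 : m ≤ 37; · exact key 19 23 (by norm_num) (by norm_num) (by norm_num) (by omega) (by omega)
    by_cases h4 : m ≤ 61; · exact key 31 37 (by norm_num) (by norm_num) (by norm_num) (by omega) (by omega)
    by_cases h5 : m ≤ 105; · exact key 53 61 (by norm_num) (by norm_num) (by norm_num) (by omega) (by omega)
    by_cases h6 : m ≤ 193; · exact key 97 103 (by norm_num) (by norm_num) (by norm_num) (by omega) (by omega)
    by_cases h7 : m ≤ 361; · exact key 181 193 (by norm_num) (by norm_num) (by norm_num) (by omega) (by omega)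
    by_cases h8 : m ≤ 705; · exact key 353 359 (by norm_num) (by norm_num) (by norm_num) (by omega) (by omega)
    by_cases h9 : m ≤ 1381; · exact key 691 701 (by norm_num) (by norm_num) (by norm_num) (by omega) (by omega)
    exact key 1373 1381 (by norm_num) (by norm_num) (by norm_num) (by omega) (by omega)

end Cfsg.Lib.PermGroup
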