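import Mathlib
import Cfsg.Agent.Lib.PermGroup.PrimeDegree
import Cfsg.Agent.S4304

/-!
Even permutation groups of degree 7 (with a 5-cycle) and of degree 13 (with an 11-cycle).
-/

set_option autoImplicit false
set_option maxHeartbeats 1000000

namespace Cfsg.Lib.PermGroup

open Equiv Equiv.Perm MulAction Cfsg
open scoped Pointwise

variable {α : Type*} [Fintype α] [DecidableEq α] {G : Subgroup (Perm α)}

theorem sq_not_dvd_factorial_self {p : ℕ} [hp : Fact p.Prime] {n : ℕ} (hn : n < 2 * p) : ¬ p ^ 2 ∣ n.factorial := by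
  intro h
  have h2 := (Nat.Prime.pow_dvd_iff_le_factorization hp.out (Nat.factorial_ne_zero n)).1 h
  have hlog : Nat.log p n < 2 := Nat.log_lt_of_lt_pow' (by norm_num) (by nlinarith [hp.out.two_le])
  rw [Nat.factorization_def _ hp.out, padicValNat_factorial (n := n) (b := 2) hlog] at h2
  simp only [show Finset.Ico 1 2 = {1} from rfl, Finset.sum_singleton, pow_one] at h2
  have : n / p < 2 := (Nat.div_lt_iff_lt_mul hp.out.pos).2 hn
  omega

/-- The stabilizer of the two fixed points of a cycle. -/
theorem card_eq_mul (hG : IsPreprimitive G α) {p q : ℕ} (hp : p.Prime) (hq : Fintype.card α = q) (hpq : p + 2 = q) (hp2 : 2 < p)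
    {x : Perm α} (hxc : x.IsCycle) (hxs : x.support.card = p) (hx : x ∈ G) :
    IsMultiplyPretransitive G α 3 ∧
      Nat.card G = q * (q - 1) * Nat.card (fixingSubgroup G ((x.support : Set α)ᶜ)) ∧
      IsPreprimitive (fixingSubgroup G ((x.support : Set α)ᶜ)) (SubMulAction.ofFixingSubgroup G ((x.support : Set α)ᶜ)) ∧
      Nat.card (SubMulAction.ofFixingSubgroup G ((x.support : Set α)ᶜ)) = p := by
  classical
  haveI := isPretransitive_of_isCycle_mem hxc hx
  have hs : ((x.support : Set α)ᶜ).ncard = 1 + 1 := by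
    rw [Set.ncard_compl, Set.ncard_coe_finset, hxs, Nat.card_eq_fintype_card, hq]; omega
  have hc : Nat.card (SubMulAction.ofFixingSubgroup G ((x.support : Set α)ᶜ)) = p := by
    rw [Nat.card_eq_fintype_card, Fintype.card_subtype, ← hxs]
    apply congr_arg
    ext y
    simp [SubMulAction.mem_ofFixingSubgroup_iff]
  have hpp : IsPreprimitive (fixingSubgroup G ((x.support : Set α)ᶜ)) (SubMulAction.ofFixingSubgroup G ((x.support : Set α)ᶜ)) :=
    IsPreprimitive.of_prime_card (by rw [hc]; exact hp)
  haveI := hG.isMultiplyPreprimitive hs (by rw [Nat.card_eq_fintype_card, hq]; omega) hpp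
  haveI h3 : IsMultiplyPretransitive G α (1 + 2) := IsMultiplyPreprimitive.isMultiplyPretransitive ..
  have h2 : IsMultiplyPretransitive G α 2 := isMultiplyPretransitive_of_le (n := 1 + 2) (by norm_num) (by rw [Nat.card_eq_fintype_card, hq]; omega)
  refine ⟨h3, ?_, hpp, hc⟩
  have h1 := IsMultiplyPretransitive.index_of_fixingSubgroup_mul (G := G) (α := α) (k := 2) h2 hs
  rw [Nat.card_eq_fintype_card, hq] at h1
  have hidx : (fixingSubgroup G ((x.support : Set α)ᶜ)).index = q * (q - 1) := by
    refine Nat.eq_of_mul_eq_mul_right (Nat.factorial_pos (q - 2)) (h1.trans ?_)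
    obtain ⟨r, rfl⟩ : ∃ r, q = r + 2 := ⟨q - 2, by omega⟩
    rw [show r + 2 - 1 = r + 1 by omega, show r + 2 - 2 = r by omega, Nat.factorial_succ, Nat.factorial_succ]
    ring
  rw [← (fixingSubgroup G ((x.support : Set α)ᶜ)).card_mul_index, hidx, mul_comm]

/-- Sylow numbers of a group of prime degree. -/
theorem sylow_of_prime_degree (hG : IsPreprimitive G α) {q : ℕ} [hq : Fact q.Prime] (hcard : Fintype.card α = q) {y : Perm α}
    (hyc : y.IsCycle) (hys : y.support.card = q) (hy : y ∈ G) (hbig : q < Nat.card G) :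
    ∃ k : ℕ, k ∣ q - 1 ∧ k ≠ 1 ∧ Nat.card G = Nat.card (Sylow q G) * (q * k) := by
  classical
  set Y : G := ⟨y, hy⟩
  have hYo : orderOf Y = q := by rw [Subgroup.orderOf_mk, hyc.orderOf, hys]
  obtain ⟨S, hS⟩ := (IsPGroup.of_card (p := q) (n := 1) (G := Subgroup.zpowers Y)
    (by rw [Nat.card_zpowers, hYo, pow_one])).exists_le_sylow
  have hsq : ¬ q ^ 2 ∣ Nat.card G := fun h => sq_not_dvd_factorial_self (n := q) (by have := hq.out.pos; omega) (h.trans (by
    have := Subgroup.card_subgroup_dvd_card G
    rwa [Nat.card_perm, Nat.card_eq_fintype_card (α := α), hcard] at this))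
  have hSeq : (S : Subgroup G) = Subgroup.zpowers Y := by
    refine (Subgroup.eq_of_le_of_card_ge hS ?_).symm
    obtain ⟨j, hj⟩ := IsPGroup.iff_card.1 S.isPGroup'
    rw [Nat.card_zpowers, hYo, hj]
    by_contra hlt
    refine hsq (dvd_trans ?_ (Subgroup.card_subgroup_dvd_card (S : Subgroup G)))
    rw [hj]
    refine pow_dvd_pow q ?_
    by_contra h1
    interval_cases j <;> simp_all [hq.out.one_lt.le]
  have hsupp : y.support = Finset.univ := Finset.eq_univ_of_card _ (hys.trans hcard.symm)
  have hcard_S : Nat.card (S : Subgroup G) = q := by rw [hSeq, Nat.card_zpowers, hYo]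
  have hC : Subgroup.centralizer ((S : Subgroup G) : Set G) ≤ (S : Subgroup G) := by
    intro c hc
    rw [hSeq] at hc ⊢
    have h1 : Commute (c : Perm α) y :=
      (congrArg Subtype.val (Subgroup.mem_centralizer_iff.1 hc Y (Subgroup.mem_zpowers Y))).symm
    obtain ⟨i, hi⟩ := Subgroup.mem_zpowers_iff.1 (mem_zpowers_of_commute hyc h1 fun z hz => absurd (hsupp ▸ Finset.mem_univ z) hz)
    exact Subgroup.mem_zpowers_iff.2 ⟨i, Subtype.ext (by rw [SubgroupClass.coe_zpow]; exact hi)⟩
  set N := Subgroup.normalizer ((S : Subgroup G) : Set G)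
  haveI : IsCyclic (S : Subgroup G) := isCyclic_of_prime_card hcard_S
  set φ := (S : Subgroup G).normalizerMonoidHom
  have hker : φ.ker = (S : Subgroup G).subgroupOf N := by
    rw [Subgroup.normalizerMonoidHom_ker]
    ext c
    rw [Subgroup.mem_subgroupOf, Subgroup.mem_subgroupOf]
    exact ⟨fun h => hC h, fun h => Subgroup.mem_centralizer_iff.2 fun t ht =>
      congrArg Subtype.val (IsCyclic.commutative.is_comm.comm (⟨t, ht⟩ : (S : Subgroup G)) ⟨c, h⟩)⟩
  set k := φ.ker.index
  have hN : Nat.card N = q * k := by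
    rw [← φ.ker.card_mul_index, hker, Nat.card_congr (Subgroup.subgroupOfEquivOfLe Subgroup.le_normalizer).toEquiv, hcard_S]
    rw [show k = φ.ker.index from rfl, hker]
  have hk : k ∣ q - 1 := by
    rw [show k = φ.ker.index from rfl, Subgroup.index_ker]
    refine (Subgroup.card_subgroup_dvd_card _).trans (dvd_of_eq ?_)
    rw [IsCyclic.card_mulAut, hcard_S, Nat.totient_prime hq.out]
  refine ⟨k, hk, fun hk1 => ?_, ?_⟩
  · have hNS : N ≤ (S : Subgroup G) := by
      have := Subgroup.eq_of_le_of_card_ge (Subgroup.le_normalizer (H := (S : Subgroup G)))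
        (by rw [hN, hk1, mul_one, hcard_S])
      exact this.ge
    have hnpc : HasNormalPComplement q G := Transfer.hasNormalPComplement_of_normalizer_le_centralizer S
      fun g hg => Subgroup.mem_centralizer_iff.2 fun t ht =>
        congrArg Subtype.val (IsCyclic.commutative.is_comm.comm (⟨t, ht⟩ : (S : Subgroup G)) ⟨g, hNS hg⟩)
    rw [Transfer.hasNormalPComplement_iff_pResidual] at hnpc
    haveI := Transfer.pResidual_normal (G := G) q
    obtain ⟨j, hj⟩ := Transfer.exists_index_pResidual_eq_pow (G := G) (p := q)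
    have hL : fixedPoints (pResidual q G) α ≠ .univ := by
      intro e
      have hbot : pResidual q G = ⊥ := eq_bot_iff.2 fun m hm => Subgroup.mem_bot.2 (Subtype.ext (Equiv.ext fun z =>
        (e.ge (Set.mem_univ z) : ∀ m' : pResidual q G, m' • z = z) ⟨m, hm⟩))
      rw [hbot, Subgroup.index_bot] at hj
      rcases j with _ | _ | j
      · rw [hj, pow_zero] at hbig; exact absurd hbig (not_lt.2 hq.out.one_lt.le)
      · rw [hj, pow_one] at hbig; exact lt_irrefl _ hbig
      · exact hsq (hj ▸ pow_dvd_pow q (by omega))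
    haveI := IsQuasiPreprimitive.isPretransitive_of_normal (G := G) (X := α) hL
    obtain ⟨z, -⟩ := hyc.nonempty_support
    have hd : q ∣ Nat.card (pResidual q G) := by
      have := Subgroup.index_dvd_card (stabilizer (pResidual q G) z)
      rwa [MulAction.index_stabilizer_of_transitive, Nat.card_eq_fintype_card, hcard] at this
    exact hq.out.coprime_iff_not_dvd.1 hnpc.symm hd
  · rw [Sylow.card_eq_index_normalizer S, ← hN, mul_comm]
    exact (N.card_mul_index).symm

theorem le_of_seven (hG : IsPreprimitive G α) (hcard : Fintype.card α = 7) (halt : G ≤ alternatingGroup α)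
    {y x : Perm α} (hyc : y.IsCycle) (hys : y.support.card = 7) (hy : y ∈ G)
    (hxc : x.IsCycle) (hxs : x.support.card = 5) (hx : x ∈ G) : alternatingGroup α ≤ G := by
  classical
  haveI : Fact (Nat.Prime 7) := ⟨by norm_num⟩
  obtain ⟨-, hmul, -, -⟩ := card_eq_mul hG (p := 5) (q := 7) (by norm_num) hcard (by norm_num) (by norm_num) hxc hxs hx
  set F := fixingSubgroup G ((x.support : Set α)ᶜ)
  have hxF : (⟨x, hx⟩ : G) ∈ F := by
    rw [mem_fixingSubgroup_iff]
    intro z hz
    exact Perm.notMem_support.1 hz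
  by_cases h3 : 3 ∣ Nat.card F
  · haveI : Fact (Nat.Prime 3) := ⟨Nat.prime_three⟩
    obtain ⟨u, hu⟩ := exists_prime_orderOf_dvd_card' (G := F) 3 h3
    set σ : Perm α := ((u : G) : Perm α)
    have hσ : orderOf σ = 3 := by simp only [σ, Subgroup.orderOf_coe, hu]
    have hsub : σ.support ⊆ x.support := by
      intro z hz
      by_contra hz'
      exact Perm.mem_support.1 hz ((mem_fixingSubgroup_iff G).1 u.2 z hz')
    have hle : σ.support.card ≤ 5 := hxs ▸ Finset.card_le_card hsub
    have hc : σ.IsCycle := Equiv.Perm.isCycle_of_prime_order (by rw [hσ]; exact Nat.prime_three) (by rw [hσ]; omega)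
    exact alternatingGroup_le_of_prime_cycle hG Nat.prime_three (by omega) hc (by rw [← hc.orderOf, hσ]) (u : G).2
  exfalso
  have h5 : 5 ∣ Nat.card F := by
    have := orderOf_dvd_natCard (⟨⟨x, hx⟩, hxF⟩ : F)
    rwa [Subgroup.orderOf_mk, Subgroup.orderOf_mk, hxc.orderOf, hxs] at this
  have hdvd : 42 * Nat.card F ∣ 2520 := by
    have h1 := Subgroup.card_dvd_of_le halt
    haveI : Nontrivial α := Fintype.one_lt_card_iff_nontrivial.1 (by omega)
    rw [nat_card_alternatingGroup, Nat.card_eq_fintype_card (α := α), hcard, hmul] at h1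
    exact h1.trans (by norm_num [Nat.factorial])
  have hFd : Nat.card F ∈ ({5, 10, 20} : Finset ℕ) := by
    have h60 : Nat.card F ∣ 60 := Nat.dvd_of_mul_dvd_mul_left (by norm_num) (hdvd.trans (by norm_num : 2520 ∣ 42 * 60))
    have hle := Nat.le_of_dvd (by norm_num) h60
    have hmem : Nat.card F ∈ Nat.divisors 60 := Nat.mem_divisors.2 ⟨h60, by norm_num⟩
    rw [show Nat.divisors 60 = {1, 2, 3, 4, 5, 6, 10, 12, 15, 20, 30, 60} by decide] at hmem
    simp only [Finset.mem_insert, Finset.mem_singleton] at hmem ⊢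
    omega
  obtain ⟨k, hk, hk1, hn⟩ := sylow_of_prime_degree hG (q := 7) hcard hyc hys hy (by
    rw [hmul]; have := Nat.card_pos (α := F); omega)
  have hmod : Nat.card (Sylow 7 G) % 7 = 1 := card_sylow_modEq_one 7 G
  have h15 : Nat.card (Sylow 7 G) ≠ 15 := Cfsg.Agent.S4304.result
  rw [hmul] at hn
  have hk' : k ∈ Nat.divisors 6 := Nat.mem_divisors.2 ⟨hk, by norm_num⟩
  rw [show Nat.divisors 6 = {1, 2, 3, 6} by decide] at hk'
  simp only [Finset.mem_insert, Finset.mem_singleton] at hk' hFd
  rcases hk' with rfl | rfl | rfl | rfl <;> rcases hFd with e | e | e <;> rw [e] at hn <;> omega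

/-- The elements of prime order when the Sylow subgroups have prime order. -/
theorem card_orderOf_eq_prime {K : Type*} [Group K] [Finite K] {p : ℕ} [hp : Fact p.Prime]
    (h : ∀ S : Sylow p K, Nat.card (S : Subgroup K) = p) :
    Nat.card {g : K // orderOf g = p} = Nat.card (Sylow p K) * (p - 1) := by
  classical
  haveI := Fintype.ofFinite K
  haveI := Fintype.ofFinite (Sylow p K)
  let f : (Σ S : Sylow p K, {s : (S : Subgroup K) // s ≠ 1}) → {g : K // orderOf g = p} := fun s =>
    ⟨(s.2.1 : K), by
      rw [Subgroup.orderOf_coe]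
      refine ((Nat.dvd_prime hp.out).1 (by have := orderOf_dvd_natCard s.2.1; rwa [h s.1] at this)).resolve_left fun e => s.2.2 ?_
      exact orderOf_eq_one_iff.1 e⟩
  have hf : Function.Bijective f := by
    constructor
    · rintro ⟨S, s, hs⟩ ⟨T, t, ht⟩ e
      have e' : (s : K) = t := congrArg Subtype.val e
      have hST : S = T := by
        refine Sylow.ext ?_
        have key : ∀ (S : Sylow p K) (s : (S : Subgroup K)), s ≠ 1 → Subgroup.zpowers (s : K) = (S : Subgroup K) := by
          intro S s hs
          refine Subgroup.eq_of_le_of_card_ge (Subgroup.zpowers_le.2 s.2) ?_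
          rw [h S, Nat.card_zpowers, Subgroup.orderOf_coe]
          refine (((Nat.dvd_prime hp.out).1 (by have := orderOf_dvd_natCard s; rwa [h S] at this)).resolve_left fun e => hs ?_).ge
          exact orderOf_eq_one_iff.1 e
        rw [← key S s hs, ← key T t ht, e']
      subst hST
      have : s = t := Subtype.ext e'
      subst this
      rfl
    · rintro ⟨g, hg⟩
      obtain ⟨S, hS⟩ := (IsPGroup.of_card (p := p) (n := 1) (G := Subgroup.zpowers g)
        (by rw [Nat.card_zpowers, hg, pow_one])).exists_le_sylow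
      refine ⟨⟨S, ⟨g, hS (Subgroup.mem_zpowers g)⟩, fun e => ?_⟩, rfl⟩
      rw [show g = 1 from congrArg Subtype.val e] at hg
      simp only [OneMemClass.coe_one, orderOf_one] at hg
      exact hp.out.one_lt.ne hg
  rw [← Nat.card_congr (Equiv.ofBijective f hf), Nat.card_sigma]
  have : ∀ S : Sylow p K, Nat.card {s : (S : Subgroup K) // s ≠ 1} = p - 1 := by
    intro S
    haveI := Fintype.ofFinite (S : Subgroup K)
    rw [Nat.card_eq_fintype_card, Fintype.card_subtype_compl, Fintype.card_subtype_eq, ← Nat.card_eq_fintype_card, h S]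
  simp only [this, Finset.sum_const, Finset.card_univ, smul_eq_mul, Nat.card_eq_fintype_card]

/-- No sharply 2-transitive group on twelve points. -/
theorem no_deg_twelve {A : Type*} [Group A] [Finite A] {X : Type*} [MulAction A X] [hA : IsPreprimitive A X]
    (hX : Nat.card X = 12) (hfaith : ∀ a : A, (∀ z : X, a • z = z) → a = 1) (hcard : Nat.card A = 132)
    (h11 : Nat.card (Sylow 11 A) = 12) : False := by
  classical
  haveI : Fact (Nat.Prime 11) := ⟨by norm_num⟩
  haveI : Fact (Nat.Prime 3) := ⟨Nat.prime_three⟩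
  have hS : ∀ (p m : ℕ) [Fact p.Prime], 132 = p * m → ¬ p ∣ m → ∀ S : Sylow p A, Nat.card (S : Subgroup A) = p := by
    intro p m hp e hm S
    have hm0 : m ≠ 0 := fun h => hm (h ▸ dvd_zero p)
    rw [S.card_eq_multiplicity, hcard, e, Nat.factorization_mul hp.out.ne_zero hm0, Finsupp.add_apply,
      hp.out.factorization_self, Nat.factorization_eq_zero_of_not_dvd hm, add_zero, pow_one]
  have htrans : ∀ L : Subgroup A, L.Normal → L ≠ ⊥ → 12 ∣ Nat.card L := by
    intro L hL hL1
    have hfp : fixedPoints L X ≠ .univ := fun e => hL1 (eq_bot_iff.2 fun m hm => Subgroup.mem_bot.2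
      (hfaith m fun z => (e.ge (Set.mem_univ z) : ∀ m' : L, m' • z = z) ⟨m, hm⟩))
    haveI := IsQuasiPreprimitive.isPretransitive_of_normal (G := A) (X := X) hfp
    obtain ⟨z⟩ : Nonempty X := (Nat.card_pos_iff.1 (by rw [hX]; norm_num)).1
    rw [← hX, ← MulAction.index_stabilizer_of_transitive L z]
    exact Subgroup.index_dvd_card _
  obtain ⟨T⟩ : Nonempty (Sylow 3 A) := inferInstance
  have hT := hS 3 44 (by norm_num) (by norm_num) T
  have hn44 : Nat.card (Sylow 3 A) ∣ 44 := by
    have h1 := (T : Subgroup A).card_mul_index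
    rw [hT, hcard] at h1
    rw [show 44 = (T : Subgroup A).index by omega]
    exact T.card_dvd_index
  have hmod : Nat.card (Sylow 3 A) % 3 = 1 := card_sylow_modEq_one 3 A
  have hmem : Nat.card (Sylow 3 A) ∈ Nat.divisors 44 := Nat.mem_divisors.2 ⟨hn44, by norm_num⟩
  rw [show Nat.divisors 44 = {1, 2, 4, 11, 22, 44} by decide] at hmem
  simp only [Finset.mem_insert, Finset.mem_singleton] at hmem
  set φ := MulAction.toPermHom A (Sylow 3 A)
  have hker : Nat.card φ.range ∣ (Nat.card (Sylow 3 A)).factorial := by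
    rw [← Nat.card_perm]; exact Subgroup.card_subgroup_dvd_card _
  have hidx : Nat.card φ.range * Nat.card φ.ker = 132 := by
    rw [← Subgroup.index_ker, mul_comm, Subgroup.card_mul_index, hcard]
  by_cases hne : φ.ker = ⊥
  · rw [hne, Subgroup.card_bot, mul_one] at hidx
    rw [hidx] at hker
    rcases hmem with e | e | e | e | e | e <;> rw [e] at hker hmod <;> first | omega | (norm_num [Nat.factorial] at hker) | skip
    · have h1 := card_orderOf_eq_prime (K := A) (p := 3) (hS 3 44 (by norm_num) (by norm_num))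
      have h2 := card_orderOf_eq_prime (K := A) (p := 11) (hS 11 12 (by norm_num) (by norm_num))
      rw [e] at h1
      rw [h11] at h2
      haveI := Fintype.ofFinite A
      rw [Nat.card_eq_fintype_card, Fintype.card_subtype] at h1 h2
      have h3 := Finset.card_union_of_disjoint (s := Finset.univ.filter fun g : A => orderOf g = 3)
        (t := Finset.univ.filter fun g : A => orderOf g = 11) (Finset.disjoint_filter.2 fun g _ e1 e2 => by omega)
      have h4 := Finset.card_le_univ ((Finset.univ.filter fun g : A => orderOf g = 3) ∪ Finset.univ.filter fun g : A => orderOf g = 11)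
      rw [h3, h1, h2, ← Nat.card_eq_fintype_card, hcard] at h4
      omega
  · have h12 := htrans φ.ker inferInstance hne
    rcases hmem with e | e | e | e | e | e <;> rw [e] at hmod <;> try omega
    · -- one Sylow subgroup
      haveI : Subsingleton (Sylow 3 A) := (Nat.card_eq_one_iff_unique.1 e).1
      have hn : (T : Subgroup A).Normal := T.normal_of_subsingleton
      have := htrans _ hn fun e' => by rw [e', Subgroup.card_bot] at hT; norm_num at hT
      rw [hT] at this
      norm_num at this
    · have h4 : 4 ∣ Nat.card φ.range := by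
        haveI : IsPretransitive φ.range (Sylow 3 A) := ⟨fun u v => by
          obtain ⟨g, hg⟩ := MulAction.exists_smul_eq A u v
          exact ⟨φ.rangeRestrict g, hg⟩⟩
        rw [← e, ← MulAction.index_stabilizer_of_transitive φ.range T]
        exact Subgroup.index_dvd_card _
      have := Nat.mul_dvd_mul h4 h12
      rw [hidx] at this
      norm_num at this
    · have h22 : 22 ∣ Nat.card φ.range := by
        haveI : IsPretransitive φ.range (Sylow 3 A) := ⟨fun u v => by
          obtain ⟨g, hg⟩ := MulAction.exists_smul_eq A u v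
          exact ⟨φ.rangeRestrict g, hg⟩⟩
        rw [← e, ← MulAction.index_stabilizer_of_transitive φ.range T]
        exact Subgroup.index_dvd_card _
      have := Nat.mul_dvd_mul h22 h12
      rw [hidx] at this
      norm_num at this

theorem le_of_thirteen (hG : IsPreprimitive G α) (hcard : Fintype.card α = 13) (halt : G ≤ alternatingGroup α)
    {x : Perm α} (hxc : x.IsCycle) (hxs : x.support.card = 11) (hx : x ∈ G) : alternatingGroup α ≤ G := by
  classical
  haveI : Fact (Nat.Prime 11) := ⟨by norm_num⟩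
  haveI : Fact (Nat.Prime 5) := ⟨by norm_num⟩
  haveI := hG
  by_cases h25 : 5 ^ 2 ∣ Nat.card G
  · obtain ⟨S⟩ : Nonempty (Sylow 5 G) := inferInstance
    have hScard : 5 ^ 2 ∣ Nat.card (S : Subgroup G) := by
      rw [S.card_eq_multiplicity]
      exact pow_dvd_pow 5 ((Nat.Prime.pow_dvd_iff_le_factorization (by norm_num) Nat.card_pos.ne').1 h25)
    obtain ⟨z, hz⟩ : ∃ z : α, (MulAction.orbit (S : Subgroup G) z).ncard ≠ 1 := by
      by_contra hc
      push Not at hc
      have hbot : (S : Subgroup G) = ⊥ := eq_bot_iff.2 fun s hs => Subgroup.mem_bot.2 (Subtype.ext (Equiv.ext fun z => by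
        obtain ⟨w, hw⟩ := Set.ncard_eq_one.1 (hc z)
        have h1 : s • z ∈ MulAction.orbit (S : Subgroup G) z := ⟨⟨s, hs⟩, rfl⟩
        have h2 := MulAction.mem_orbit_self (M := (S : Subgroup G)) z
        rw [hw] at h1 h2
        exact h1.trans h2.symm))
      rw [hbot, Subgroup.card_bot] at hScard
      norm_num at hScard
    obtain ⟨j, hj⟩ := S.isPGroup'.card_orbit z
    rw [Nat.card_coe_set_eq] at hj
    have hj1 : j = 1 := by
      have hle := Set.ncard_le_card (MulAction.orbit (S : Subgroup G) z)
      rw [hj, Nat.card_eq_fintype_card, hcard] at hle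
      rcases j with _ | _ | j
      · exact absurd (hj.trans (pow_zero 5)) hz
      · rfl
      · have : (5 : ℕ) ^ 2 ≤ 5 ^ (j + 1 + 1) := Nat.pow_le_pow_right (by norm_num) (by omega)
        exact absurd (this.trans hle) (by norm_num)
    rw [hj1, pow_one] at hj
    set Z := stabilizer (S : Subgroup G) z
    have hZidx : Z.index = 5 := by rw [MulAction.index_stabilizer]; exact hj
    haveI hZn : Z.Normal := Subgroup.normal_of_index_eq_minFac_card (by
      obtain ⟨k, hk⟩ := IsPGroup.iff_card.1 S.isPGroup'
      rw [hZidx, hk, Nat.Prime.pow_minFac (by norm_num) fun k0 => by rw [hk, k0, pow_zero] at hScard; norm_num at hScard])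
    obtain ⟨d, hd⟩ := exists_prime_orderOf_dvd_card' (G := Z) 5 (by
      have := Z.card_mul_index
      rw [hZidx] at this
      rw [← this, pow_two] at hScard
      exact Nat.dvd_of_mul_dvd_mul_right (by norm_num) hScard)
    set δ : Perm α := (((d : (S : Subgroup G)) : G) : Perm α)
    have hδ : orderOf δ = 5 := by simp only [δ, Subgroup.orderOf_coe, hd]
    have hsupp : δ.support.card ≤ 8 := by
      have h1 : (δ.support : Set α) ⊆ (MulAction.orbit (S : Subgroup G) z)ᶜ := by
        rintro w hw ⟨a, rfl⟩
        rw [Finset.mem_coe, Perm.mem_support] at hw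
        refine hw ?_
        have h1 : (a⁻¹ * (d : (S : Subgroup G)) * a⁻¹⁻¹) ∈ Z := hZn.conj_mem _ d.2 a⁻¹
        have h2 : (a⁻¹ * (d : (S : Subgroup G)) * a⁻¹⁻¹) • z = z := h1
        rw [inv_inv, mul_smul, mul_smul, inv_smul_eq_iff] at h2
        exact h2
      have h2 := Set.ncard_le_ncard h1
      rw [Set.ncard_coe_finset, Set.ncard_compl, hj, Nat.card_eq_fintype_card, hcard] at h2
      exact h2
    have hc : δ.IsCycle := Equiv.Perm.isCycle_of_prime_order (by rw [hδ]; norm_num) (by rw [hδ]; omega)
    exact alternatingGroup_le_of_prime_cycle hG (p := 5) (by norm_num) (by omega) hc (by rw [← hc.orderOf, hδ]) ((d : (S : Subgroup G)) : G).2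
  obtain ⟨ht3, hmul, hFprim, hFcard⟩ := card_eq_mul hG (p := 11) (q := 13) (by norm_num) hcard (by norm_num) (by norm_num) hxc hxs hx
  set F := fixingSubgroup G ((x.support : Set α)ᶜ)
  have hFfix : ∀ f : F, ∀ z ∉ x.support, ((f : G) : Perm α) z = z := fun f z hz =>
    (mem_fixingSubgroup_iff G).1 f.2 z hz
  by_cases h5 : 5 ∣ Nat.card F
  · obtain ⟨u, hu⟩ := exists_prime_orderOf_dvd_card' (G := F) 5 h5
    set σ : Perm α := ((u : G) : Perm α)
    have hσ : orderOf σ = 5 := by simp only [σ, Subgroup.orderOf_coe, hu]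
    have hle : σ.support.card ≤ 11 := hxs ▸ Finset.card_le_card fun z hz => by
      by_contra hz'
      exact Perm.mem_support.1 hz (hFfix u z hz')
    obtain ⟨m, hm⟩ := cycleType_prime_order (σ := σ) (by rw [hσ]; norm_num)
    have hsum := sum_cycleType σ
    rw [hm, hσ, Multiset.sum_replicate, smul_eq_mul] at hsum
    rcases (show σ.support.card = 5 ∨ σ.support.card = 10 by omega) with h | h
    · have hc : σ.IsCycle := Equiv.Perm.isCycle_of_prime_order (by rw [hσ]; norm_num) (by rw [hσ]; omega)
      exact alternatingGroup_le_of_prime_cycle hG (p := 5) (by norm_num) (by omega) hc h (u : G).2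
    · exact le_of_double_five hG hcard ht3 h25 (u : G).2 hσ h
  exfalso
  have hxF : (⟨x, hx⟩ : G) ∈ F := by
    rw [mem_fixingSubgroup_iff]
    intro z hz
    exact Perm.notMem_support.1 hz
  set X : F := ⟨⟨x, hx⟩, hxF⟩
  have hXo : orderOf X = 11 := by rw [Subgroup.orderOf_mk, Subgroup.orderOf_mk, hxc.orderOf, hxs]
  have h121 : ¬ 11 ^ 2 ∣ Nat.card G := fun h => sq_not_dvd_factorial_self (p := 11) (n := 13) (by norm_num) (h.trans (by
    have := Subgroup.card_subgroup_dvd_card G
    rwa [Nat.card_perm, Nat.card_eq_fintype_card (α := α), hcard] at this))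
  obtain ⟨P, hP⟩ := (IsPGroup.of_card (p := 11) (n := 1) (G := Subgroup.zpowers X) (by rw [Nat.card_zpowers, hXo, pow_one])).exists_le_sylow
  have hPeq : (P : Subgroup F) = Subgroup.zpowers X := by
    refine (Subgroup.eq_of_le_of_card_ge hP ?_).symm
    obtain ⟨j, hj⟩ := IsPGroup.iff_card.1 P.isPGroup'
    rw [Nat.card_zpowers, hXo, hj]
    by_contra hlt
    refine h121 (dvd_trans ?_ ((Subgroup.card_subgroup_dvd_card (P : Subgroup F)).trans (Subgroup.card_subgroup_dvd_card F)))
    rw [hj]
    refine pow_dvd_pow 11 ?_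
    by_contra h1
    interval_cases j <;> simp_all
  have hcentX : ∀ c : F, c * X = X * c → c ∈ (P : Subgroup F) := by
    intro c hc
    obtain ⟨i, hi⟩ := Subgroup.mem_zpowers_iff.1 (mem_zpowers_of_commute hxc
      (show Commute ((c : G) : Perm α) x from congrArg (fun t : F => ((t : G) : Perm α)) hc) (hFfix c))
    rw [hPeq]
    exact Subgroup.mem_zpowers_iff.2 ⟨i, Subtype.ext (Subtype.ext (by rw [SubgroupClass.coe_zpow, SubgroupClass.coe_zpow]; exact hi))⟩
  have hPcard : Nat.card (P : Subgroup F) = 11 := by rw [hPeq, Nat.card_zpowers, hXo]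
  haveI : IsCyclic (P : Subgroup F) := isCyclic_of_prime_card hPcard
  have hN : Subgroup.normalizer ((P : Subgroup F) : Set F) ≤ (P : Subgroup F) := by
    intro g hg
    refine Transfer.mem_of_forall_pow_ordCompl_mem fun r hr => ?_
    set e := g ^ ordCompl[r] (orderOf g)
    have heo : orderOf e = r ^ (orderOf g).factorization r := by
      rw [orderOf_pow_of_dvd (Nat.ordCompl_pos r (orderOf_pos g).ne').ne' (Nat.ordCompl_dvd _ _),
        Nat.div_div_self (Nat.ordProj_dvd _ _) (orderOf_pos g).ne']
    have heN : e ∈ Subgroup.normalizer ((P : Subgroup F) : Set F) := pow_mem hg _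
    set φ := (P : Subgroup F).normalizerMonoidHom
    have hφ : φ ⟨e, heN⟩ = 1 → e ∈ (P : Subgroup F) := by
      intro h
      have h' : (⟨e, heN⟩ : Subgroup.normalizer ((P : Subgroup F) : Set F)) ∈ φ.ker := h
      rw [Subgroup.normalizerMonoidHom_ker] at h'
      exact hcentX e (Subgroup.mem_centralizer_iff.1 h' X (hPeq ▸ Subgroup.mem_zpowers X)).symm
    have hd10 : orderOf (φ ⟨e, heN⟩) ∣ 10 := by
      refine (orderOf_dvd_natCard _).trans (dvd_of_eq ?_)
      rw [IsCyclic.card_mulAut, hPcard, Nat.totient_prime (by norm_num : Nat.Prime 11)]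
    have hde : orderOf (φ ⟨e, heN⟩) ∣ r ^ (orderOf g).factorization r := by
      refine (orderOf_map_dvd φ _).trans ?_
      rw [Subgroup.orderOf_mk, heo]
    by_cases hr10 : r ∣ 10
    swap
    · exact hφ (orderOf_eq_one_iff.1 (Nat.eq_one_of_dvd_coprimes ((hr.coprime_iff_not_dvd.2 hr10).pow_left _) hde hd10))
    have hr25 : r = 2 ∨ r = 5 := by
      have h1 : r ∣ 2 * 5 := hr10
      rcases hr.dvd_mul.1 h1 with h | h
      · exact Or.inl ((Nat.prime_dvd_prime_iff_eq hr Nat.prime_two).1 h)
      · exact Or.inr ((Nat.prime_dvd_prime_iff_eq hr (by norm_num)).1 h)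
    by_cases hs0 : (orderOf g).factorization r = 0
    · rw [hs0, pow_zero] at heo
      rw [orderOf_eq_one_iff.1 heo]; exact one_mem _
    rcases hr25 with rfl | rfl
    swap
    · refine absurd ((dvd_pow_self 5 hs0).trans ?_) h5
      rw [← heo]; exact orderOf_dvd_natCard e
    set s := (orderOf g).factorization 2
    by_contra he
    -- a suitable power is an involution inverting `X`
    have hd2 : orderOf (φ ⟨e, heN⟩) ∣ 2 := by
      have h1 := Nat.dvd_gcd hde hd10
      refine h1.trans ?_
      obtain ⟨s', hs'⟩ := Nat.exists_eq_succ_of_ne_zero hs0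
      rw [hs', pow_succ', show 10 = 2 * 5 from rfl, Nat.gcd_mul_left, Nat.Coprime.gcd_eq_one (Nat.Coprime.pow_left _ (by norm_num)), mul_one]
    have hsq : e ^ 2 ∈ (P : Subgroup F) := by
      have h' : (⟨e, heN⟩ : Subgroup.normalizer ((P : Subgroup F) : Set F)) ^ 2 ∈ φ.ker := by
        rw [MonoidHom.mem_ker, map_pow]; exact orderOf_dvd_iff_pow_eq_one.1 hd2
      rw [Subgroup.normalizerMonoidHom_ker] at h'
      exact hcentX _ (Subgroup.mem_centralizer_iff.1 h' X (hPeq ▸ Subgroup.mem_zpowers X)).symm
    have he2 : e ^ 2 = 1 := by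
      rw [← orderOf_eq_one_iff]
      refine Nat.eq_one_of_dvd_coprimes (a := 2 ^ s) (b := 11) (Nat.Coprime.pow_left _ (by norm_num))
        (heo ▸ orderOf_pow_dvd 2) ?_
      rw [← hPcard]
      exact Subgroup.orderOf_dvd_natCard _ hsq
    set a := φ ⟨e, heN⟩ with ha
    have ha1 : a ≠ 1 := fun h => he (hφ h)
    have hXP : X ∈ (P : Subgroup F) := hPeq ▸ Subgroup.mem_zpowers X
    obtain ⟨i, hi⟩ : ∃ i : ℕ, e * X * e⁻¹ = X ^ i := by
      have h1 : e * X * e⁻¹ ∈ (P : Subgroup F) := (Subgroup.mem_normalizer_iff.1 heN X).1 hXP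
      rw [hPeq, ← mem_powers_iff_mem_zpowers] at h1
      obtain ⟨i, hi⟩ := h1
      exact ⟨i, hi.symm⟩
    set ε : Perm α := ((e : G) : Perm α)
    have hεx : ∀ (n : ℕ) z, ε ((x ^ n) z) = (x ^ (i * n)) (ε z) := by
      intro n z
      have h1 : ε * x * ε⁻¹ = x ^ i := congrArg (fun t : F => ((t : G) : Perm α)) hi
      have h2 : ε * x ^ n = x ^ (i * n) * ε := by
        rw [pow_mul, ← h1, conj_pow]; group
      exact DFunLike.congr_fun h2 z
    have hε2 : ε ^ 2 = 1 := congrArg (fun t : F => ((t : G) : Perm α)) he2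
    have hε1 : ε ≠ 1 := fun h => he (by rw [show e = 1 from Subtype.ext (Subtype.ext h)]; exact one_mem _)
    have hεo : orderOf ε = 2 := orderOf_eq_prime hε2 hε1
    obtain ⟨m, hm⟩ := cycleType_prime_order (σ := ε) (by rw [hεo]; exact Nat.prime_two)
    have hsum := sum_cycleType ε
    rw [hm, hεo, Multiset.sum_replicate, smul_eq_mul] at hsum
    have hsign : Equiv.Perm.sign ε = 1 := halt (e : G).2
    rw [Equiv.Perm.sign_of_cycleType, hm, hεo, Multiset.sum_replicate, Multiset.card_replicate, smul_eq_mul] at hsign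
    have heven : Even (m + 1) := by
      by_contra hodd
      rw [Nat.not_even_iff_odd] at hodd
      rw [pow_add, pow_mul', hodd.neg_one_pow] at hsign
      norm_num at hsign
    have hle : ε.support.card ≤ 11 := hxs ▸ Finset.card_le_card fun z hz => by
      by_contra hz'
      exact Perm.mem_support.1 hz (hFfix e z hz')
    obtain ⟨l, hl⟩ := heven
    -- at most one fixed point among the eleven
    have h10 : 10 ≤ ε.support.card := by
      by_contra hlt
      obtain ⟨z, hz, w, hw, hzw⟩ := Finset.one_lt_card.1 (show 1 < (x.support \ ε.support).card by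
        have := Finset.le_card_sdiff ε.support x.support
        omega)
      rw [Finset.mem_sdiff] at hz hw
      obtain ⟨n, hn⟩ := hxc.exists_pow_eq (Perm.mem_support.1 hz.1) (Perm.mem_support.1 hw.1)
      have h1 := hεx n z
      rw [hn, Perm.notMem_support.1 hw.2, Perm.notMem_support.1 hz.2] at h1
      have h2 : (x ^ (i * n)) z = (x ^ n) z := h1.symm.trans hn.symm
      have h3 : x ^ (i * n) = x ^ n := (hxc.pow_eq_pow_iff).2 ⟨z, Perm.mem_support.1 hz.1, h2⟩
      rw [pow_eq_pow_iff_modEq, hxc.orderOf, hxs] at h3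
      have hi1 : ¬ i ≡ 1 [MOD 11] := by
        intro hmod
        refine he (hcentX e ?_)
        have h5 : X ^ i = X := by
          rw [← pow_one X, ← pow_mul, one_mul, pow_eq_pow_iff_modEq, hXo]; exact hmod
        rw [← mul_inv_eq_iff_eq_mul, hi, h5]
      have hn0 : ¬ 11 ∣ n := by
        rintro ⟨c, rfl⟩
        refine hzw ?_
        rw [← hn, pow_mul, show x ^ 11 = 1 by rw [← hxs, ← hxc.orderOf, pow_orderOf_eq_one], one_pow]
        rfl
      refine hi1 (Nat.ModEq.cancel_right_of_coprime (c := n) ?_ ?_)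
      · exact ((by norm_num : Nat.Prime 11).coprime_iff_not_dvd.2 hn0)
      · rw [one_mul]; exact h3
    omega
  have hnpc : HasNormalPComplement 11 F := Transfer.hasNormalPComplement_of_normalizer_le_centralizer P
    fun g hg => Subgroup.mem_centralizer_iff.2 fun t ht =>
      congrArg Subtype.val (IsCyclic.commutative.is_comm.comm (⟨t, ht⟩ : (P : Subgroup F)) ⟨g, hN hg⟩)
  rw [Transfer.hasNormalPComplement_iff_pResidual] at hnpc
  haveI := Transfer.pResidual_normal (G := F) 11
  obtain ⟨j, hj⟩ := Transfer.exists_index_pResidual_eq_pow (G := F) (p := 11)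
  have hbot : pResidual 11 F = ⊥ := by
    haveI := hFprim
    set Y := SubMulAction.ofFixingSubgroup G ((x.support : Set α)ᶜ)
    have hfp : fixedPoints (pResidual 11 F) Y = .univ := by
      by_contra hne
      haveI := IsQuasiPreprimitive.isPretransitive_of_normal (G := F) (X := Y) hne
      obtain ⟨z⟩ : Nonempty Y := (Nat.card_pos_iff.1 (by rw [hFcard]; norm_num)).1
      have hd : 11 ∣ Nat.card (pResidual 11 F) := by
        have := Subgroup.index_dvd_card (stabilizer (pResidual 11 F) z)
        rwa [MulAction.index_stabilizer_of_transitive, hFcard] at this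
      exact (by norm_num : Nat.Prime 11).coprime_iff_not_dvd.1 hnpc.symm hd
    refine eq_bot_iff.2 fun m hm => Subgroup.mem_bot.2 (Subtype.ext (Subtype.ext (Equiv.ext fun z => ?_)))
    by_cases hz : z ∈ x.support
    · have hzY : z ∈ Y := by simpa [Y, SubMulAction.mem_ofFixingSubgroup_iff] using hz
      exact congrArg Subtype.val ((hfp.ge (Set.mem_univ (⟨z, hzY⟩ : Y)) : ∀ m' : pResidual 11 F, m' • (⟨z, hzY⟩ : Y) = _) ⟨m, hm⟩)
    · exact hFfix m z hz
  have hF11 : Nat.card F = 11 := by
    rw [hbot, Subgroup.index_bot] at hj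
    rcases j with _ | _ | j
    · have := orderOf_dvd_natCard X
      rw [hXo, hj, pow_zero] at this; norm_num at this
    · rw [hj, pow_one]
    · exact absurd ((hj ▸ pow_dvd_pow 11 (by omega : 2 ≤ j + 1 + 1)).trans (Subgroup.card_subgroup_dvd_card F)) h121
  obtain ⟨a, ha⟩ : ∃ a, a ∉ x.support := by
    by_contra hc
    push Not at hc
    have := Finset.eq_univ_of_forall hc
    rw [this, Finset.card_univ, hcard] at hxs
    omega
  set A := stabilizer G a
  have hG1716 : Nat.card G = 1716 := by rw [hmul, hF11]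
  have hA : Nat.card A = 132 := by
    haveI := hG.toIsPretransitive
    have h1 := A.card_mul_index
    rw [MulAction.index_stabilizer_of_transitive, Nat.card_eq_fintype_card (α := α), hcard, hG1716] at h1
    omega
  have h11 : Nat.card (Sylow 11 A) = 12 := by
    have hXA : (⟨x, hx⟩ : G) ∈ A := Perm.notMem_support.1 ha
    set XA : A := ⟨⟨x, hx⟩, hXA⟩
    have hXAo : orderOf XA = 11 := by rw [Subgroup.orderOf_mk, Subgroup.orderOf_mk, hxc.orderOf, hxs]
    obtain ⟨Q, hQ⟩ := (IsPGroup.of_card (p := 11) (n := 1) (G := Subgroup.zpowers XA) (by rw [Nat.card_zpowers, hXAo, pow_one])).exists_le_sylow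
    have hQcard : Nat.card (Q : Subgroup A) = 11 := by
      rw [Q.card_eq_multiplicity, hA, show 132 = 11 * 12 from rfl, Nat.factorization_mul (by norm_num) (by norm_num), Finsupp.add_apply,
        (by norm_num : Nat.Prime 11).factorization_self, Nat.factorization_eq_zero_of_not_dvd (by norm_num), add_zero, pow_one]
    have hQeq : (Q : Subgroup A) = Subgroup.zpowers XA :=
      (Subgroup.eq_of_le_of_card_ge hQ (by rw [hQcard, Nat.card_zpowers, hXAo])).symm
    have hNQ : Subgroup.normalizer ((Q : Subgroup A) : Set A) = (Q : Subgroup A) := by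
      refine le_antisymm (fun g hg => ?_) Subgroup.le_normalizer
      -- the normalizer fixes every point outside the support
      set γ : Perm α := ((g : G) : Perm α)
      have hconj : g⁻¹ * XA * g ∈ (Q : Subgroup A) := (Subgroup.mem_normalizer_iff''.1 hg XA).1 (hQeq ▸ Subgroup.mem_zpowers XA)
      have hinv : ∀ z, z ∉ x.support → γ z ∉ x.support := by
        intro z hz
        rw [hQeq] at hconj
        obtain ⟨i, hi⟩ := Subgroup.mem_zpowers_iff.1 hconj
        have h1 : γ⁻¹ * x * γ = x ^ i := by
          have := (congrArg (fun t : A => ((t : G) : Perm α)) hi).symm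
          simp only [SubgroupClass.coe_zpow] at this
          exact this
        have h2 : (x ^ i) z = z := Perm.notMem_support.1 fun h => hz (Perm.support_zpow_le x i h)
        rw [← h1, Perm.mul_apply, Perm.mul_apply, Perm.inv_eq_iff_eq] at h2
        exact Perm.notMem_support.2 h2
      have hcompl : x.supportᶜ.card = 2 := by rw [Finset.card_compl, hxs, hcard]
      have hγa : γ a = a := (g.2 : _)
      have hgF : (g : G) ∈ F := by
        rw [mem_fixingSubgroup_iff]
        intro z hz
        by_cases hza : z = a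
        · rw [hza]; exact g.2
        by_contra hne
        have hsub : ({a, z, γ z} : Finset α) ⊆ x.supportᶜ := by
          intro w hw
          simp only [Finset.mem_insert, Finset.mem_singleton] at hw
          rw [Finset.mem_compl]
          rcases hw with rfl | rfl | rfl
          · exact ha
          · exact hz
          · exact hinv z hz
        have hne2 : γ z ≠ a := fun e => hza (γ.injective (e.trans hγa.symm))
        have := Finset.card_le_card hsub
        rw [Finset.card_insert_of_notMem (by simp [Ne.symm hza, Ne.symm hne2]), Finset.card_pair (show z ≠ γ z from Ne.symm hne), hcompl] at this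
        omega
      have htop : (⊤ : Subgroup F) = Subgroup.zpowers X :=
        (Subgroup.eq_of_le_of_card_ge le_top (by rw [Subgroup.card_top, hF11, Nat.card_zpowers, hXo])).symm
      obtain ⟨i, hi⟩ := Subgroup.mem_zpowers_iff.1 (htop ▸ Subgroup.mem_top (⟨(g : G), hgF⟩ : F))
      rw [hQeq]
      refine Subgroup.mem_zpowers_iff.2 ⟨i, Subtype.ext ?_⟩
      have := congrArg Subtype.val hi
      simp only [SubgroupClass.coe_zpow] at this ⊢
      exact this
    have h1 := (Q : Subgroup A).card_mul_index
    rw [hQcard, hA] at h1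
    rw [Q.card_eq_index_normalizer]
    show (Subgroup.normalizer ((Q : Subgroup A) : Set A)).index = _
    rw [hNQ]
    omega
  have h2 : IsMultiplyPretransitive G α 3 := ht3
  haveI := hG.toIsPretransitive
  haveI : IsMultiplyPretransitive (stabilizer G a) (SubMulAction.ofStabilizer G a) 2 := (SubMulAction.ofStabilizer.isMultiplyPretransitive (G := G) (α := α) (a := a) (n := 2)).1 h2
  haveI hprim : IsPreprimitive (stabilizer G a) (SubMulAction.ofStabilizer G a) :=
    isPreprimitive_of_is_two_pretransitive inferInstance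
  refine no_deg_twelve (A := stabilizer G a) (X := SubMulAction.ofStabilizer G a) ?_ ?_ hA h11
  · have := SubMulAction.nat_card_ofStabilizer_add_one_eq (G := G) (a := a)
    rw [Nat.card_eq_fintype_card (α := α), hcard] at this
    omega
  · intro g hg
    refine Subtype.ext (Subtype.ext (Equiv.ext fun z => ?_))
    by_cases hz : z = a
    · rw [hz]; exact g.2
    · exact congrArg Subtype.val (hg ⟨z, hz⟩)

end Cfsg.Lib.PermGroup
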